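import Groth.Agent.AGF.K494.UT.Geo
import Groth.Agent.Pic13.H964.K2

/-!
# Torsors under unipotent groups over an affine open
-/

set_option autoImplicit false
universe u
open CategoryTheory MonoidalCategory CartesianMonoidalCategory MonObj AlgebraicGeometry Limits TopologicalSpace
open scoped TensorProduct
open Groth.Agent.Books.AffBridge Groth.Agent.Sga3B.AffPts Groth.Agent.Books.BorelOrb K494.UTFn K494.UTGeo

namespace K494.UTAff

theorem bijective_productMap {B C₁ C₂ P : Type u} [CommRing B] [CommRing C₁] [CommRing C₂] [CommRing P]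
    [Algebra B C₁] [Algebra B C₂] [Algebra B P] (s : C₁ →ₐ[B] P) (a : C₂ →ₐ[B] P)
    (h : IsPushout (CommRingCat.ofHom (algebraMap B C₁)) (CommRingCat.ofHom (algebraMap B C₂))
      (CommRingCat.ofHom s.toRingHom) (CommRingCat.ofHom a.toRingHom)) :
    Function.Bijective (Algebra.TensorProduct.productMap s a) := by
  have h0 := CommRingCat.isPushout_tensorProduct B C₁ C₂
  let e := h0.isoIsPushout _ _ h
  have h1 : ∀ c, e.hom.hom (c ⊗ₜ[B] (1 : C₂)) = s c := fun c =>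
    congr(CommRingCat.Hom.hom $(IsPushout.inl_isoIsPushout_hom _ _ h0 h) c)
  have h2 : ∀ c, e.hom.hom ((1 : C₁) ⊗ₜ[B] c) = a c := fun c =>
    congr(CommRingCat.Hom.hom $(IsPushout.inr_isoIsPushout_hom _ _ h0 h) c)
  have h3 : (Algebra.TensorProduct.productMap s a : C₁ ⊗[B] C₂ → P) = fun z => e.hom.hom z := by
    funext z
    induction z with
    | zero => rw [map_zero]; exact (map_zero e.hom.hom).symm
    | add x y hx hy => rw [map_add, hx, hy]; exact (map_add e.hom.hom x y).symm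
    | tmul c d =>
      rw [Algebra.TensorProduct.productMap_apply_tmul, ← h1, ← h2]
      refine (map_mul e.hom.hom (c ⊗ₜ[B] (1 : C₂)) ((1 : C₁) ⊗ₜ[B] d)).symm.trans ?_
      rw [Algebra.TensorProduct.tmul_mul_tmul, _root_.mul_one, _root_.one_mul]
  rw [h3]
  exact ConcreteCategory.bijective_of_isIso e.hom

variable {k : Type u} [Field k] {A : Type u} [CommRing A] [HopfAlgebra k A]
  {G X : Over (Spec (CommRingCat.of k))} [GrpObj G] (ε : G ≅ SpecOver k A)
  (b : AlgGrp.Action G X) {Y : Scheme.{u}} (π : X.left ⟶ Y) (hπ : b.act.left ≫ π = (snd G X).left ≫ π)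

section
variable {ε b π hπ}

/-- every function has coordinates. -/
theorem exists_rep (e : Module.Basis ℕ k A) [IsAffineHom π] {V : Y.Opens} (hV : IsAffineOpen V)
    (f : Γ(X.left, π ⁻¹ᵁ V)) : ∃ (n : ℕ) (c : ℕ → Γ(X.left, π ⁻¹ᵁ V)), Rep ε b π hπ e n V f c := by
  letI := algSnd G X (π ⁻¹ᵁ V)
  obtain ⟨β, hβ⟩ := exists_basis ε X (hV.preimage π) e
  let z : ℕ →₀ Γ(X.left, π ⁻¹ᵁ V) := β.repr (pl b.act.left hπ V f)
  refine ⟨z.support.sup id + 1, z, ?_⟩
  have h1 : pl b.act.left hπ V f = z.sum fun i c => c • β i := (β.linearCombination_repr _).symm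
  unfold Rep
  rw [h1, Finsupp.sum_of_support_subset (s := Finset.range (z.support.sup id + 1))]
  · refine Finset.sum_congr rfl fun j _ => ?_
    rw [hβ, Algebra.smul_def, mul_comm]
    rfl
  · intro i hi
    rw [Finset.mem_range]
    exact Nat.lt_succ_of_le (Finset.le_sup (f := id) hi)
  · intro i _
    rw [zero_smul]

/-- an invariant function comes from the base -/
theorem exists_app [Flat π] [Surjective π] [IsAffineHom π] (pb : IsPullback b.act.left (snd G X).left π π)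
    {V : Y.Opens} (c : Γ(X.left, π ⁻¹ᵁ V))
    (hc : pl b.act.left hπ V c = pl (snd G X).left (r' := (snd G X).left ≫ π) rfl V c) :
    ∃ r : Γ(Y, V), (π.app V).hom r = c := by
  refine Groth.Agent.Pic13.H964.K2.exists_fn pb.flip c ?_
  exact hc.symm

theorem app_injective [Flat π] [Surjective π] [IsAffineHom π] (V : Y.Opens) : Function.Injective (π.app V).hom :=
  Groth.Agent.Pic13.H964.K2.app_injective π V

variable [IsMonHom ε.hom] (e : Module.Basis ℕ k A) (u : ℕ → ℕ → A) (hu1 : ∀ j, u j j = 1)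
    (hu0 : ∀ i j, j < i → u i j = 0)
    (hu : ∀ j, CoalgebraStruct.comul (R := k) (e j) = ∑ i ∈ Finset.range (j + 1), e i ⊗ₜ[k] u i j)

include hu1 hu0 hu in
/-- over an affine open there are functions with leading coefficient `1`. -/
theorem exists_one [Flat π] [Surjective π] [IsAffineHom π] (pb : IsPullback b.act.left (snd G X).left π π)
    {V : Y.Opens} (hV : IsAffineOpen V) (n : ℕ) :
    ∃ (f : Γ(X.left, π ⁻¹ᵁ V)) (c : ℕ → Γ(X.left, π ⁻¹ᵁ V)), Rep ε b π hπ e (n + 1) V f c ∧ c n = 1 := by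
  have hV' : IsAffineOpen (π ⁻¹ᵁ V) := hV.preimage π
  letI algB : Algebra Γ(Y, V) Γ(X.left, π ⁻¹ᵁ V) := (π.appLE V (π ⁻¹ᵁ V) le_rfl).hom.toAlgebra
  letI algC := algSnd G X (π ⁻¹ᵁ V)
  letI algP : Algebra Γ(Y, V) Γ((G ⊗ X).left, (snd G X).left ⁻¹ᵁ (π ⁻¹ᵁ V)) :=
    ((algebraMap Γ(X.left, π ⁻¹ᵁ V) Γ((G ⊗ X).left, (snd G X).left ⁻¹ᵁ (π ⁻¹ᵁ V))).comp
      (algebraMap Γ(Y, V) Γ(X.left, π ⁻¹ᵁ V))).toAlgebra
  haveI : IsScalarTower Γ(Y, V) Γ(X.left, π ⁻¹ᵁ V) Γ((G ⊗ X).left, (snd G X).left ⁻¹ᵁ (π ⁻¹ᵁ V)) :=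
    IsScalarTower.of_algebraMap_eq fun _ => rfl
  haveI hff : Module.FaithfullyFlat Γ(Y, V) Γ(X.left, π ⁻¹ᵁ V) := Groth.Agent.Pic13.H964.K2.faithfullyFlat_fn π hV
  obtain ⟨β, hβ⟩ := exists_basis ε X hV' e
  have hN : (snd G X).left ⁻¹ᵁ (π ⁻¹ᵁ V) = b.act.left ⁻¹ᵁ (π ⁻¹ᵁ V) ⊓ (snd G X).left ⁻¹ᵁ (π ⁻¹ᵁ V) := by
    rw [← Scheme.Hom.comp_preimage, ← Scheme.Hom.comp_preimage, hπ, inf_idem]
  have hpo := (isIso_pushoutSection_iff pb (le_refl (π ⁻¹ᵁ V)) (le_refl (π ⁻¹ᵁ V)) hN).mp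
    (isIso_pushoutSection_of_isAffineOpen pb (le_refl (π ⁻¹ᵁ V)) (le_refl (π ⁻¹ᵁ V)) hN hV hV' hV')
  let a : Γ(X.left, π ⁻¹ᵁ V) →ₐ[Γ(Y, V)] Γ((G ⊗ X).left, (snd G X).left ⁻¹ᵁ (π ⁻¹ᵁ V)) :=
    { pl b.act.left hπ V with
      commutes' := fun r => congr(CommRingCat.Hom.hom $(hpo.w) r) }
  have hb : Function.Bijective (Algebra.TensorProduct.productMap (IsScalarTower.toAlgHom Γ(Y, V) Γ(X.left, π ⁻¹ᵁ V)
      Γ((G ⊗ X).left, (snd G X).left ⁻¹ᵁ (π ⁻¹ᵁ V))) a) :=
    bijective_productMap _ _ hpo.flip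
  -- coordinates
  have hrep : ∀ (f : Γ(X.left, π ⁻¹ᵁ V)) (m : ℕ) (hm : (K494.UTAlg.chi β a f).support ⊆ Finset.range m),
      Rep ε b π hπ e m V f (K494.UTAlg.chi β a f) := by
    intro f m hm
    have h1 : pl b.act.left hπ V f = (K494.UTAlg.chi β a f).sum fun i c => c • β i :=
      (β.linearCombination_repr _).symm
    unfold Rep
    rw [h1, Finsupp.sum_of_support_subset (s := Finset.range m) _ hm]
    · refine Finset.sum_congr rfl fun j _ => ?_
      rw [hβ, Algebra.smul_def, mul_comm]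
      rfl
    · intro i _
      rw [zero_smul]
  have hu' : ∀ m, ∀ j < m, CoalgebraStruct.comul (R := k) (e j) = ∑ i ∈ Finset.range m, e i ⊗ₜ[k] u i j := by
    intro m j hj
    rw [hu]
    refine Finset.sum_subset (Finset.range_mono hj) fun i _ hi => ?_
    rw [hu0 i j (by simpa using hi), TensorProduct.tmul_zero]
  have hχ : ∀ (f : Γ(X.left, π ⁻¹ᵁ V)) (i : ℕ), a (K494.UTAlg.chi β a f i) =
      (K494.UTAlg.chi β a f).sum fun j y => fn ε (fst G X) ((snd G X).left ⁻¹ᵁ (π ⁻¹ᵁ V)) (u i j) *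
        algebraMap Γ(X.left, π ⁻¹ᵁ V) Γ((G ⊗ X).left, (snd G X).left ⁻¹ᵁ (π ⁻¹ᵁ V)) y := by
    intro f i
    let m := (K494.UTAlg.chi β a f).support.sup id + 1 + (i + 1)
    have hm : (K494.UTAlg.chi β a f).support ⊆ Finset.range m := by
      intro j hj
      rw [Finset.mem_range]
      exact lt_of_lt_of_le (Nat.lt_succ_of_le (Finset.le_sup (f := id) hj)) (Nat.le_add_right _ _)
    have h1 := (hrep f m hm).coact (hu' m) (fst G X) (snd G X) rfl i (by omega)
    have h2 : sm b (fst G X) (snd G X) = b.act := by rw [sm, lift_fst_snd, Category.id_comp]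
    simp only [h2] at h1
    refine Eq.trans h1 ?_
    rw [Finsupp.sum_of_support_subset (s := Finset.range m) _ hm]
    · rfl
    · intro j _
      rw [map_zero, mul_zero]
  obtain ⟨f, hf0, hf1⟩ := K494.UTAlg.exists_of_lead β a
    (fun i j => fn ε (fst G X) ((snd G X).left ⁻¹ᵁ (π ⁻¹ᵁ V)) (u i j)) (fun j => by rw [hu1, map_one])
    (fun i j h => by rw [hu0 i j h, map_zero]) hχ hb n 1
  refine ⟨f, K494.UTAlg.chi β a f, hrep f (n + 1) ?_, ?_⟩
  · intro j hj
    rw [Finset.mem_range]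
    by_contra hlt
    exact (Finsupp.mem_support_iff.mp hj) (hf0 j (by omega))
  · rw [hf1, map_one]

end

end K494.UTAff
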