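import Groth.Agent.WittGrp.K718.SectAlg
import Mathlib.LinearAlgebra.Basis.Basic
import Mathlib.LinearAlgebra.DirectSum.Finsupp
import Mathlib.RingTheory.Flat.Equalizer

/-!
# Algebraic core: the filtration of the functions on a torsor under a unipotent group

`B → C` faithfully flat, `C ⊗_B C ≃ P`, `c ⊗ d ↦ s(c) a(d)`, with `P` free over `C` (through `s`) with basis `e i`,
and `a(χ_i c) = ∑ⱼ u_ij s(χ_j c)` for the coordinates `a(c) = ∑ s(χ_i c) e_i`, where `u` is unitriangular.
-/

set_option autoImplicit false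

universe u

open TensorProduct

namespace K494.UTAlg

variable {B C P : Type u} [CommRing B] [CommRing C] [CommRing P] [Algebra B C] [Algebra B P] [Algebra C P]
  [IsScalarTower B C P]

/-- faithfully flat descent of elements -/
lemma exists_of_tmul_eq [Module.FaithfullyFlat B C] (x : C) (h : (1 : C) ⊗ₜ[B] x = x ⊗ₜ[B] 1) :
    ∃ b, algebraMap B C b = x := by
  let D : Submodule B C := LinearMap.range (Algebra.linearMap B C)
  have h1 : (1 : C) ⊗ₜ[B] (D.mkQ x) = 0 := by
    have h2 := congrArg (LinearMap.lTensor C D.mkQ) h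
    rw [LinearMap.lTensor_tmul, LinearMap.lTensor_tmul] at h2
    have h3 : D.mkQ (1 : C) = 0 := by
      rw [← LinearMap.mem_ker, Submodule.ker_mkQ]
      exact ⟨1, by simp⟩
    rw [h3, TensorProduct.tmul_zero] at h2
    exact h2
  have h4 := Module.FaithfullyFlat.tensorProduct_mk_injective (A := B) (B := C) (C ⧸ D)
    (a₁ := D.mkQ x) (a₂ := 0) (by simpa using h1)
  rw [← LinearMap.mem_ker, Submodule.ker_mkQ] at h4
  obtain ⟨a, ha⟩ := h4
  exact ⟨a, ha⟩

variable (e : Module.Basis ℕ C P) (a : C →ₐ[B] P)

/-- the coordinates -/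
noncomputable def chi : C →ₗ[B] (ℕ →₀ C) := (e.repr.toLinearMap.restrictScalars B) ∘ₗ a.toLinearMap

lemma chi_apply (c : C) : chi e a c = e.repr (a c) := rfl

variable (u : ℕ → ℕ → P) (hu1 : ∀ j, u j j = 1) (hu0 : ∀ i j, j < i → u i j = 0)
  (hχ : ∀ (c : C) (i : ℕ), a (chi e a c i) = (chi e a c).sum fun j y => u i j * algebraMap C P y)

include hu1 hu0 hχ in
/-- the leading coefficient is equivariant -/
theorem lead (n : ℕ) (c : C) (hc : ∀ i, n < i → chi e a c i = 0) : a (chi e a c n) = algebraMap C P (chi e a c n) := by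
  rw [hχ c n, Finsupp.sum]
  by_cases h0 : chi e a c n = 0
  · rw [h0, map_zero]
    refine Finset.sum_eq_zero fun j hj => ?_
    rcases lt_trichotomy j n with h | h | h
    · rw [hu0 _ _ h, zero_mul]
    · rw [h, h0, map_zero, mul_zero]
    · rw [hc j h, map_zero, mul_zero]
  · rw [Finset.sum_eq_single n]
    · rw [hu1, one_mul]
    · intro j _ hj
      rcases lt_or_gt_of_ne hj with h | h
      · rw [hu0 _ _ h, zero_mul]
      · rw [hc j h, map_zero, mul_zero]
    · intro h
      exact absurd (Finsupp.notMem_support_iff.mp h) h0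

variable (hb : Function.Bijective (Algebra.TensorProduct.productMap
  (IsScalarTower.toAlgHom B C P) a : C ⊗[B] C → P))

include hu1 hu0 hχ hb in
/-- the leading coefficient comes from the base -/
theorem exists_lead [Module.FaithfullyFlat B C] (n : ℕ) (c : C) (hc : ∀ i, n < i → chi e a c i = 0) :
    ∃ b, algebraMap B C b = chi e a c n := by
  apply exists_of_tmul_eq
  apply hb.1
  simp only [Algebra.TensorProduct.productMap_apply_tmul, map_one, one_mul, mul_one]
  exact lead e a u hu1 hu0 hχ n c hc

/-- the tensored coordinates -/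
noncomputable def xi (i : ℕ) : C →ₗ[B] C := Finsupp.lapply i ∘ₗ chi e a

lemma xi_apply (i : ℕ) (c : C) : xi e a i c = chi e a c i := rfl

/-- the formula for the tensored coordinates -/
theorem repr_productMap (z : C ⊗[B] C) (j : ℕ) :
    e.repr (Algebra.TensorProduct.productMap (IsScalarTower.toAlgHom B C P) a z) j =
      Algebra.TensorProduct.lmul' B ((xi e a j).lTensor C z) := by
  induction z with
  | zero => simp
  | add x y hx hy => simp only [map_add, Finsupp.add_apply, hx, hy]
  | tmul c d =>
    rw [Algebra.TensorProduct.productMap_apply_tmul, LinearMap.lTensor_tmul, Algebra.TensorProduct.lmul'_apply_tmul,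
      IsScalarTower.coe_toAlgHom', ← Algebra.smul_def, map_smul, Finsupp.smul_apply, smul_eq_mul]
    rfl

include hχ in
theorem productMap_xi (z : C ⊗[B] C) (i : ℕ) :
    Algebra.TensorProduct.productMap (IsScalarTower.toAlgHom B C P) a ((xi e a i).lTensor C z) =
      (e.repr (Algebra.TensorProduct.productMap (IsScalarTower.toAlgHom B C P) a z)).sum
        fun j y => u i j * algebraMap C P y := by
  have hadd : ∀ j (y y' : C), u i j * algebraMap C P (y + y') = u i j * algebraMap C P y + u i j * algebraMap C P y' :=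
    fun j y y' => by rw [map_add, mul_add]
  have hzero : ∀ j, u i j * algebraMap C P 0 = 0 := fun j => by rw [map_zero, mul_zero]
  induction z with
  | zero => simp
  | add x y hx hy =>
    simp only [map_add, hx, hy]
    rw [Finsupp.sum_add_index' hzero hadd]
  | tmul c d =>
    rw [LinearMap.lTensor_tmul, Algebra.TensorProduct.productMap_apply_tmul, Algebra.TensorProduct.productMap_apply_tmul,
      IsScalarTower.coe_toAlgHom', xi_apply, hχ, ← Algebra.smul_def, ← Algebra.smul_def, map_smul,
      Finsupp.sum_smul_index' hzero, Finsupp.smul_sum]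
    refine Finsupp.sum_congr fun j _ => ?_
    rw [smul_eq_mul, map_mul, Algebra.smul_def, chi_apply]
    ring

include hu1 hu0 hχ hb in
/-- **The leading coefficient is surjective.** -/
theorem exists_of_lead [Module.FaithfullyFlat B C] (n : ℕ) (b : B) :
    ∃ c : C, (∀ i, n < i → chi e a c i = 0) ∧ chi e a c n = algebraMap B C b := by
  classical
  obtain ⟨z, hz⟩ := hb.2 (e n)
  let f : C →ₗ[B] (Set.Ioi n →₀ C) := Finsupp.lsubtypeDomain (Set.Ioi n) ∘ₗ chi e a
  have hsum : ∀ i, Algebra.TensorProduct.productMap (IsScalarTower.toAlgHom B C P) a ((xi e a i).lTensor C z) =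
      u i n := by
    intro i
    rw [productMap_xi e a u hχ, hz, Module.Basis.repr_self, Finsupp.sum_single_index (by rw [map_zero, mul_zero]),
      map_one, mul_one]
  have h1 : f.lTensor C z = 0 := by
    apply (TensorProduct.finsuppRight B B C C (Set.Ioi n)).injective
    rw [map_zero]
    ext i : 1
    rw [TensorProduct.finsuppRight_apply, ← LinearMap.comp_apply, ← LinearMap.lTensor_comp, Finsupp.zero_apply]
    apply hb.1
    rw [map_zero, ← hu0 i.1 n i.2, ← hsum i.1]
    rfl
  have h2 := Module.Flat.lTensor_exact C (LinearMap.exact_subtype_ker_map f)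
  obtain ⟨z', hz'⟩ := (h2 z).mp h1
  have h3 : ((xi e a n) ∘ₗ (LinearMap.ker f).subtype).lTensor C z' = 1 ⊗ₜ[B] (1 : C) := by
    rw [LinearMap.lTensor_comp, LinearMap.comp_apply, hz']
    apply hb.1
    rw [hsum, hu1, Algebra.TensorProduct.productMap_apply_tmul, map_one, map_one, one_mul]
  obtain ⟨⟨c, hc⟩, hc1⟩ := K718.SectAlg.mem_range_of_tensor (B := C) _ (1 : C) z' h3
  have hc' : ∀ i, n < i → chi e a c i = 0 := by
    intro i hi
    have := congrArg (fun g => g (⟨i, hi⟩ : Set.Ioi n)) (LinearMap.mem_ker.mp hc)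
    exact this
  have hc1' : chi e a c n = 1 := hc1
  refine ⟨b • c, fun i hi => ?_, ?_⟩
  · rw [map_smul, Finsupp.smul_apply, hc' i hi, smul_zero]
  · rw [map_smul, Finsupp.smul_apply, hc1', Algebra.algebraMap_eq_smul_one]

end K494.UTAlg
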