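import Groth.Agent.Sga3A.ComodUnip
import Mathlib.LinearAlgebra.LinearIndependent.Lemmas
import Mathlib.RingTheory.FiniteType
import Mathlib.Data.Finsupp.Encodable

/-!
# A triangular basis of the coordinate ring of a unipotent group

* `exists_flag` : the coordinate ring of a unipotent group which is not finite has a basis `e : ℕ → A`
  with `Δ (e j) = ∑_{i ≤ j} e i ⊗ u i j` and `u j j = 1`.
-/

set_option autoImplicit false

universe u

open TensorProduct HopfRep Groth.Agent.Sga3A.ComodBasic Groth.Agent.Sga3A.ComodUnip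

namespace K494.Flag

variable {k : Type u} {A : Type u} [Field k] [CommRing A] [Bialgebra k A]

theorem gen_le {V : Type u} [AddCommGroup V] [Module k V] [Comod k A V] (v w : V)
    (h : w ∈ gen k A v) : gen k A w ≤ gen k A v := by
  rintro _ ⟨g, rfl⟩
  exact gen_stable v g w h

theorem exists_fixed {V : Type u} [AddCommGroup V] [Module k V] [Comod k A V] (n : ℕ) (v : V)
    (hv : v ∈ soc k A V n) (h0 : v ≠ 0) :
    ∃ w ∈ gen k A v, w ≠ 0 ∧ ∀ g : A →ₗ[k] k, T V g w - g 1 • w = 0 := by
  induction n generalizing v with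
  | zero => exact absurd ((mem_soc_zero v).mp hv) h0
  | succ n ih =>
    by_cases h : ∀ g : A →ₗ[k] k, T V g v - g 1 • v = 0
    · exact ⟨v, self_mem_gen v, h0, h⟩
    · push Not at h
      obtain ⟨g, hg⟩ := h
      have h1 : T V g v - g 1 • v ∈ gen k A v :=
        Submodule.sub_mem _ ⟨g, rfl⟩ (Submodule.smul_mem _ _ (self_mem_gen v))
      obtain ⟨w, hw, hw0, hw1⟩ := ih _ ((mem_soc_succ n v).mp hv g) hg
      exact ⟨w, gen_le _ _ h1 hw, hw0, hw1⟩

theorem exists_step (hU : IsUnipotent k A) (F : Submodule k A)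
    (hF : ∀ (g : A →ₗ[k] k), ∀ w ∈ F, T A g w ∈ F) (x : A) (hx : x ∉ F) :
    ∃ v, v ∉ F ∧ v ∈ gen k A x ∧ ∀ g : A →ₗ[k] k, T A g v - g 1 • v ∈ F := by
  have hF' : IsSubcomod (k := k) (A := A) F := (isSubcomod_iff F).mpr hF
  letI : Comod k A (A ⧸ F) := quot F hF'
  have hq : ∀ (g : A →ₗ[k] k) (v : A), F.mkQ (T A g v) = T (A ⧸ F) g (F.mkQ v) := by
    apply map_T
    change _ = quotCoact _ hF' ∘ₗ _
    rw [quotCoact, Submodule.liftQ_mkQ]
  have hx0 : F.mkQ x ≠ 0 := by
    rwa [Submodule.mkQ_apply, Ne, Submodule.Quotient.mk_eq_zero]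
  obtain ⟨n, hn⟩ := exists_mem_soc hU (F.mkQ x)
  obtain ⟨w, ⟨g, hg⟩, hw0, hw1⟩ := exists_fixed n _ hn hx0
  change T (A ⧸ F) g (F.mkQ x) = w at hg
  rw [← hq] at hg
  refine ⟨T A g x, ?_, ⟨g, rfl⟩, fun f => ?_⟩
  · intro h
    apply hw0
    rw [← hg, Submodule.mkQ_apply, Submodule.Quotient.mk_eq_zero]
    exact h
  · have := hw1 f
    rw [← hg, ← hq, ← map_smul, ← map_sub, Submodule.mkQ_apply, Submodule.Quotient.mk_eq_zero] at this
    exact this

/-- finite-dimensional subcomodules of the regular comodule. -/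
structure St (k A : Type u) [Field k] [CommRing A] [Bialgebra k A] where
  F : Submodule k A
  fin : Module.Finite k F
  st : ∀ (g : A →ₗ[k] k), ∀ w ∈ F, T A g w ∈ F

section Seq

variable (hU : IsUnipotent k A) (x : ℕ → A) (hx : Submodule.span k (Set.range x) = ⊤)
  (hinf : ¬ Module.Finite k A)

include hx hinf in
theorem exists_notMem (F : St k A) : ∃ m, x m ∉ F.F := by
  by_contra h
  push Not at h
  have h1 : F.F = ⊤ := by
    rw [eq_top_iff, ← hx, Submodule.span_le]
    rintro _ ⟨m, rfl⟩
    exact h m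
  have h2 := F.fin
  rw [h1] at h2
  exact hinf (Module.Finite.equiv (Submodule.topEquiv (R := k) (M := A)))

open Classical in
/-- the first element outside -/
noncomputable def mm (F : St k A) : ℕ := Nat.find (exists_notMem x hx hinf F)

open Classical in
theorem mm_spec (F : St k A) : x (mm x hx hinf F) ∉ F.F := Nat.find_spec (exists_notMem x hx hinf F)

open Classical in
theorem mm_eq (F : St k A) (m : ℕ) (h : ∀ i < m, x i ∈ F.F) (hm : x m ∉ F.F) : mm x hx hinf F = m := by
  rw [mm, Nat.find_eq_iff]
  exact ⟨hm, fun i hi => not_not.mpr (h i hi)⟩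

/-- the new vector -/
noncomputable def vv (F : St k A) : A := (exists_step hU F.F F.st _ (mm_spec x hx hinf F)).choose

theorem vv_notMem (F : St k A) : vv hU x hx hinf F ∉ F.F :=
  (exists_step hU F.F F.st _ (mm_spec x hx hinf F)).choose_spec.1

theorem vv_mem (F : St k A) : vv hU x hx hinf F ∈ gen k A (x (mm x hx hinf F)) :=
  (exists_step hU F.F F.st _ (mm_spec x hx hinf F)).choose_spec.2.1

theorem vv_T (F : St k A) (g : A →ₗ[k] k) :
    T A g (vv hU x hx hinf F) - g 1 • (vv hU x hx hinf F) ∈ F.F :=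
  (exists_step hU F.F F.st _ (mm_spec x hx hinf F)).choose_spec.2.2 g

/-- the next stage -/
noncomputable def nx (F : St k A) : St k A where
  F := F.F ⊔ Submodule.span k {vv hU x hx hinf F}
  fin := by
    have := F.fin
    infer_instance
  st g w hw := by
    obtain ⟨y, hy, z, hz, rfl⟩ := Submodule.mem_sup.mp hw
    obtain ⟨c, rfl⟩ := Submodule.mem_span_singleton.mp hz
    rw [map_add, map_smul]
    refine add_mem (Submodule.mem_sup_left (F.st g y hy)) (Submodule.smul_mem _ _ ?_)
    have h1 := vv_T hU x hx hinf F g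
    have h2 : T A g (vv hU x hx hinf F) = (T A g (vv hU x hx hinf F) - g 1 • (vv hU x hx hinf F)) +
      g 1 • (vv hU x hx hinf F) := by abel
    rw [h2]
    exact add_mem (Submodule.mem_sup_left h1)
      (Submodule.mem_sup_right (Submodule.smul_mem _ _ (Submodule.mem_span_singleton_self _)))

/-- the flag -/
noncomputable def fl : ℕ → St k A
  | 0 => ⟨⊥, inferInstance, fun g w hw => by
      rw [Submodule.mem_bot] at hw ⊢; rw [hw, map_zero]⟩
  | n + 1 => nx hU x hx hinf (fl n)

/-- the basis -/
noncomputable def ee (n : ℕ) : A := vv hU x hx hinf (fl hU x hx hinf n)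

theorem fl_succ (n : ℕ) : (fl hU x hx hinf (n + 1)).F =
    (fl hU x hx hinf n).F ⊔ Submodule.span k {ee hU x hx hinf n} := rfl

theorem fl_eq (n : ℕ) : (fl hU x hx hinf n).F = Submodule.span k (ee hU x hx hinf '' {i | i < n}) := by
  induction n with
  | zero =>
    have : {i : ℕ | i < 0} = ∅ := by ext; simp
    rw [this, Set.image_empty, Submodule.span_empty]
    rfl
  | succ n ih =>
    have : {i : ℕ | i < n + 1} = insert n {i | i < n} := by ext i; simp only [Set.mem_ofPred_eq, Set.mem_insert_iff]; omega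
    rw [fl_succ, ih, this, Set.image_insert_eq, Submodule.span_insert, sup_comm]

theorem fl_mono : Monotone fun n => (fl hU x hx hinf n).F :=
  monotone_nat_of_le_succ fun n => by rw [fl_succ]; exact le_sup_left

theorem ee_mem {i n : ℕ} (h : i < n) : ee hU x hx hinf i ∈ (fl hU x hx hinf n).F := by
  rw [fl_eq]; exact Submodule.subset_span ⟨i, h, rfl⟩

theorem ee_notMem (n : ℕ) : ee hU x hx hinf n ∉ (fl hU x hx hinf n).F := vv_notMem hU x hx hinf _

theorem linearIndependent_ee : LinearIndependent k (ee hU x hx hinf) := by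
  rw [linearIndependent_iff']
  intro s
  induction s using Finset.induction_on_max with
  | empty => intro g _ i hi; simp at hi
  | insert a s ha ih =>
    intro g hg
    have hna : a ∉ s := fun h => lt_irrefl _ (ha a h)
    rw [Finset.sum_insert hna] at hg
    have hga : g a = 0 := by
      by_contra hne
      apply ee_notMem hU x hx hinf a
      have h1 : ee hU x hx hinf a = (g a)⁻¹ • (-(∑ i ∈ s, g i • ee hU x hx hinf i)) := by
        rw [← eq_neg_of_add_eq_zero_left hg, smul_smul, inv_mul_cancel₀ hne, one_smul]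
      rw [h1]
      refine Submodule.smul_mem _ _ (Submodule.neg_mem _ (Submodule.sum_mem _ fun i hi =>
        Submodule.smul_mem _ _ (ee_mem hU x hx hinf (ha i hi))))
    intro i hi
    rw [Finset.mem_insert] at hi
    rcases hi with rfl | hi
    · exact hga
    · rw [hga, zero_smul, zero_add] at hg
      exact ih g hg i hi

theorem exists_cover (m : ℕ) : ∃ n, ∀ i < m, x i ∈ (fl hU x hx hinf n).F := by
  induction m with
  | zero => exact ⟨0, fun i hi => absurd hi (Nat.not_lt_zero i)⟩
  | succ m ih =>
    obtain ⟨N, hN⟩ := ih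
    by_contra hcon
    push Not at hcon
    have hm : ∀ n, N ≤ n → x m ∉ (fl hU x hx hinf n).F := by
      intro n hn h
      obtain ⟨i, hi, hi'⟩ := hcon n
      rcases Nat.lt_succ_iff_lt_or_eq.mp hi with h1 | rfl
      · exact hi' (fl_mono hU x hx hinf hn (hN i h1))
      · exact hi' h
    have hmm : ∀ n, N ≤ n → mm x hx hinf (fl hU x hx hinf n) = m := by
      intro n hn
      exact mm_eq x hx hinf _ m (fun i hi => fl_mono hU x hx hinf hn (hN i hi)) (hm n hn)
    have hW : ∀ j, (fl hU x hx hinf (N + j)).F ≤ (fl hU x hx hinf N).F ⊔ gen k A (x m) := by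
      intro j
      induction j with
      | zero => exact le_sup_left
      | succ j ih =>
        rw [← add_assoc, fl_succ]
        refine sup_le ih ?_
        rw [Submodule.span_singleton_le_iff_mem]
        have := vv_mem hU x hx hinf (fl hU x hx hinf (N + j))
        rw [hmm _ (Nat.le_add_right _ _)] at this
        exact Submodule.mem_sup_right this
    have : Module.Finite k (gen k A (x m)) := gen_finite (x m)
    have := (fl hU x hx hinf N).fin
    have hf : ∀ j, j ≤ Module.finrank k (fl hU x hx hinf (N + j)).F := by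
      intro j
      induction j with
      | zero => exact Nat.zero_le _
      | succ j ih =>
        have h1 := (fl hU x hx hinf (N + j + 1)).fin
        refine Nat.succ_le_of_lt (lt_of_le_of_lt ih ?_)
        apply Submodule.finrank_lt_finrank_of_lt
        refine lt_of_le_of_ne (fl_mono hU x hx hinf (Nat.le_succ _)) fun h => ?_
        apply ee_notMem hU x hx hinf (N + j)
        rw [h]
        exact ee_mem hU x hx hinf (Nat.lt_succ_self _)
    have h1 := hf (Module.finrank k ((fl hU x hx hinf N).F ⊔ gen k A (x m) : Submodule k A) + 1)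
    have h2 := Submodule.finrank_mono (hW (Module.finrank k ((fl hU x hx hinf N).F ⊔ gen k A (x m) : Submodule k A) + 1))
    omega

theorem span_ee : Submodule.span k (Set.range (ee hU x hx hinf)) = ⊤ := by
  rw [eq_top_iff, ← hx, Submodule.span_le]
  rintro _ ⟨m, rfl⟩
  obtain ⟨n, hn⟩ := exists_cover hU x hx hinf (m + 1)
  have := hn m (Nat.lt_succ_self m)
  rw [fl_eq] at this
  exact Submodule.span_mono (Set.image_subset_range _ _) this

end Seq

theorem exists_sum_of_mem_range {n : ℕ} (e : ℕ → A) (W : Submodule k A)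
    (hW : W = Submodule.span k (e '' {i | i < n})) (t : A ⊗[k] A)
    (ht : t ∈ LinearMap.range (W.subtype.rTensor A)) :
    ∃ u : ℕ → A, t = ∑ i ∈ Finset.range n, e i ⊗ₜ[k] u i := by
  obtain ⟨s, rfl⟩ := ht
  induction s with
  | zero => exact ⟨0, by simp⟩
  | add a b ha hb =>
    obtain ⟨u, hu⟩ := ha
    obtain ⟨v, hv⟩ := hb
    refine ⟨u + v, ?_⟩
    rw [map_add, hu, hv, ← Finset.sum_add_distrib]
    refine Finset.sum_congr rfl fun i _ => ?_
    rw [Pi.add_apply, TensorProduct.tmul_add]
  | tmul w a =>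
    have hw : ∀ w ∈ W, ∃ c : ℕ → k, w = ∑ i ∈ Finset.range n, c i • e i := by
      intro w hw
      rw [hW] at hw
      induction hw using Submodule.span_induction with
      | mem x hx =>
        obtain ⟨i, hi, rfl⟩ := hx
        refine ⟨Pi.single i 1, ?_⟩
        rw [Finset.sum_eq_single i]
        · simp
        · intro j _ hj; simp [Pi.single_eq_of_ne hj]
        · intro h; exact absurd (Finset.mem_range.mpr hi) h
      | zero => exact ⟨0, by simp⟩
      | add x y _ _ hx hy =>
        obtain ⟨c, rfl⟩ := hx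
        obtain ⟨d, rfl⟩ := hy
        exact ⟨c + d, by rw [← Finset.sum_add_distrib]; simp [add_smul]⟩
      | smul r x _ hx =>
        obtain ⟨c, rfl⟩ := hx
        exact ⟨r • c, by rw [Finset.smul_sum]; simp [mul_smul]⟩
    obtain ⟨c, hc⟩ := hw w w.2
    refine ⟨fun i => c i • a, ?_⟩
    rw [LinearMap.rTensor_tmul, Submodule.subtype_apply, hc, TensorProduct.sum_tmul]
    refine Finset.sum_congr rfl fun i _ => ?_
    rw [TensorProduct.smul_tmul]

/-- **A triangular basis.** -/
theorem exists_flag (hU : IsUnipotent k A) (x : ℕ → A) (hx : Submodule.span k (Set.range x) = ⊤)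
    (hinf : ¬ Module.Finite k A) :
    ∃ (e : Module.Basis ℕ k A) (u : ℕ → ℕ → A), (∀ j, u j j = 1) ∧ (∀ i j, j < i → u i j = 0) ∧
      ∀ j, CoalgebraStruct.comul (R := k) (e j) = ∑ i ∈ Finset.range (j + 1), e i ⊗ₜ[k] u i j := by
  have key : ∀ j, ∃ u : ℕ → A, CoalgebraStruct.comul (R := k) (ee hU x hx hinf j) =
      (∑ i ∈ Finset.range j, ee hU x hx hinf i ⊗ₜ[k] u i) + ee hU x hx hinf j ⊗ₜ[k] (1 : A) := by
    intro j
    have h1 : CoalgebraStruct.comul (R := k) (ee hU x hx hinf j) - ee hU x hx hinf j ⊗ₜ[k] (1 : A) ∈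
        LinearMap.range ((fl hU x hx hinf j).F.subtype.rTensor A) := by
      rw [mem_range_rTensor_iff]
      intro g
      have h2 := vv_T hU x hx hinf (fl hU x hx hinf j) g
      rw [map_sub, map_sub, LinearMap.lTensor_tmul, TensorProduct.rid_tmul]
      exact h2
    obtain ⟨u, hu⟩ := exists_sum_of_mem_range _ _ (fl_eq hU x hx hinf j) _ h1
    exact ⟨u, by rw [← hu]; abel⟩
  choose u hu using key
  refine ⟨Module.Basis.mk (linearIndependent_ee hU x hx hinf) (span_ee hU x hx hinf).ge,
    fun i j => if i = j then 1 else if j < i then 0 else u j i, fun j => by simp, fun i j h => ?_,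
    fun j => ?_⟩
  · have : i ≠ j := by omega
    simp [this, h]
  · rw [Module.Basis.mk_apply, hu, Finset.sum_range_succ]
    congr 1
    · refine Finset.sum_congr rfl fun i hi => ?_
      have h1 : i < j := Finset.mem_range.mp hi
      have h2 : i ≠ j := by omega
      have h3 : ¬ j < i := by omega
      simp [h2, h3]
    · simp

/-- The coordinate ring of an algebraic group has a countable generating family. -/
theorem exists_span (k A : Type u) [Field k] [CommRing A] [Algebra k A] [Algebra.FiniteType k A] :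
    ∃ x : ℕ → A, Submodule.span k (Set.range x) = ⊤ := by
  obtain ⟨n, f, hf⟩ := Algebra.FiniteType.iff_quotient_mvPolynomial''.mp (inferInstance : Algebra.FiniteType k A)
  obtain ⟨g, hg⟩ := exists_surjective_nat (Fin n →₀ ℕ)
  refine ⟨fun m => f (MvPolynomial.monomial (g m) 1), ?_⟩
  rw [eq_top_iff]
  intro a _
  obtain ⟨p, rfl⟩ := hf a
  induction p using MvPolynomial.induction_on' with
  | monomial s c =>
    obtain ⟨m, rfl⟩ := hg s
    have h1 : MvPolynomial.monomial (g m) c = c • MvPolynomial.monomial (g m) (1 : k) := by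
      rw [MvPolynomial.smul_monomial, smul_eq_mul, _root_.mul_one]
    rw [h1, map_smul]
    exact Submodule.smul_mem _ _ (Submodule.subset_span ⟨m, rfl⟩)
  | add p q hp hq =>
    rw [map_add]
    exact add_mem (hp trivial) (hq trivial)

end K494.Flag
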