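import Groth.Agent.AGF.K494.UT.Shf
import Groth.Agent.AGF.K494.UT.Flag
import Groth.Agent.PRed.K543.UnipPts
import Groth.Agent.NonAbH1.K551.Tors
import Groth.Prelude.Def_RedSub

/-!
# Torsors under unipotent groups over a field: assembly
-/

set_option autoImplicit false
universe u
open CategoryTheory MonoidalCategory CartesianMonoidalCategory MonObj AlgebraicGeometry Limits TopologicalSpace
open scoped TensorProduct
open HopfRep
open Groth.Agent Groth.Agent.Books.AffBridge Groth.Agent.Books.AffBridge2 Groth.Agent.Sga3B Groth.Agent.Sga3B.AffPts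
  Groth.Agent.Agf.H609.SchGlue Groth.Agent.Books.BorelOrb

namespace K494.UTFin

/-- the coordinate ring of a smooth connected unipotent group is unipotent. -/
theorem isUnipotent {k : Type u} [Field k] {A : Type u} [CommRing A] [HopfAlgebra k A]
    [Smooth (SpecOver k A).hom] [ConnectedSpace ↥(SpecOver k A).left]
    (h : Red.HasNoSubtorus (AlgebraicClosure k)
      (Red.bc (Spec.map (CommRingCat.ofHom (algebraMap k (AlgebraicClosure k)))) (SpecOver k A))) :
    IsDomain (AlgebraicClosure k ⊗[k] A) ∧ IsUnipotent k A := by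
  have hsm : Algebra.Smooth k A := (smooth_specOver_iff k A).1 inferInstance
  have hft : Algebra.FiniteType k A := inferInstance
  have hcon : ConnectedSpace (PrimeSpectrum A) := ‹ConnectedSpace ↥(SpecOver k A).left›
  have hdom : IsDomain (AlgebraicClosure k ⊗[k] A) := Sga3.H809.Main.isDomain_bc k (AlgebraicClosure k) A
    (fun e he => Sga3A.FibDomain.idem_trivial he)
  refine ⟨hdom, ?_⟩
  obtain ⟨e, he⟩ := BcSpec892.exists_iso k (AlgebraicClosure k) A
  have h1 : Red.HasNoSubtorus (AlgebraicClosure k) (SpecOver (AlgebraicClosure k) (AlgebraicClosure k ⊗[k] A)) :=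
    RadOpen.hasNoSubtorus_of_iso e h
  have hsm' : Smooth (SpecOver (AlgebraicClosure k) (AlgebraicClosure k ⊗[k] A)).hom :=
    (smooth_specOver_iff _ _).2 inferInstance
  have hcon' : ConnectedSpace ↥(SpecOver (AlgebraicClosure k) (AlgebraicClosure k ⊗[k] A)).left :=
    inferInstanceAs (ConnectedSpace (PrimeSpectrum (AlgebraicClosure k ⊗[k] A)))
  have h2 := RadOpen.isUnip_of_hasNoSubtorus (𝟙 (SpecOver (AlgebraicClosure k) (AlgebraicClosure k ⊗[k] A))) h1
  apply K543.UnipHopf.isUnipotent_of_baseChange (AlgebraicClosure k)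
  apply K543.UnipHopf.isUnipotent_of_isUnip
  intro g
  exact h2 g ⟨RG.BrPts.ptEquiv _ _ g, Category.comp_id _⟩

/-- a finite geometrically integral coordinate ring of a group is trivial. -/
theorem bijective_of_finite {k A : Type u} [Field k] [CommRing A] [HopfAlgebra k A]
    (hd : IsDomain (AlgebraicClosure k ⊗[k] A)) (hf : Module.Finite k A) : Function.Bijective (algebraMap k A) := by
  have hinj : Function.Injective (Algebra.TensorProduct.includeRight : A →ₐ[k] AlgebraicClosure k ⊗[k] A) :=
    Algebra.TensorProduct.includeRight_injective (algebraMap k (AlgebraicClosure k)).injective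
  have hdA : IsDomain A := hinj.isDomain (Algebra.TensorProduct.includeRight : A →ₐ[k] AlgebraicClosure k ⊗[k] A).toRingHom
  have hint : Algebra.IsIntegral k A := inferInstance
  have hfield : IsField A := isField_of_isIntegral_of_isField' (Field.toIsField k)
  refine ⟨(algebraMap k A).injective, fun a => ⟨Bialgebra.counitAlgHom k A a, ?_⟩⟩
  letI := hfield.toField
  have h1 : Function.Injective (Bialgebra.counitAlgHom k A) := RingHom.injective (Bialgebra.counitAlgHom k A).toRingHom
  apply h1
  rw [AlgHom.commutes]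
  rfl

variable {k : Type u} [Field k] (U : Over (Spec (CommRingCat.of k))) [GrpObj U] [Smooth U.hom] [IsAffine U.left]
  [ConnectedSpace ↥U.left]

theorem exists_hopf_unip
    (hU : Red.HasNoSubtorus (AlgebraicClosure k)
      (Red.bc (Spec.map (CommRingCat.ofHom (algebraMap k (AlgebraicClosure k)))) U)) (hU1 : ¬ Red.IsTrivialGrp U) :
    ∃ (A : Type u) (_ : CommRing A) (_ : HopfAlgebra k A) (e : U ≅ SpecOver k A),
      IsMonHom e.hom ∧ Algebra.FiniteType k A ∧ IsUnipotent k A ∧ ¬ Module.Finite k A := by
  obtain ⟨A, _, _, e, he⟩ := exists_hopf k U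
  have hsm : Smooth (SpecOver k A).hom := by
    rw [hom_eq_of_iso e.symm]; infer_instance
  have hcon : ConnectedSpace ↥(SpecOver k A).left :=
    (Scheme.homeoOfIso (asIso e.hom.left)).surjective.connectedSpace
      (Scheme.homeoOfIso (asIso e.hom.left)).continuous
  have hsm' : Algebra.Smooth k A := (smooth_specOver_iff k A).1 hsm
  let e' : Red.bc (Spec.map (CommRingCat.ofHom (algebraMap k (AlgebraicClosure k)))) U ≅
    Red.bc (Spec.map (CommRingCat.ofHom (algebraMap k (AlgebraicClosure k)))) (SpecOver k A) :=
      (Over.pullback _).mapIso e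
  have he' : IsMonHom e'.hom := inferInstanceAs (IsMonHom ((Over.pullback _).map e.hom))
  obtain ⟨hd, hu⟩ := isUnipotent (RadOpen.hasNoSubtorus_of_iso e' hU)
  refine ⟨A, inferInstance, inferInstance, e, he, inferInstance, hu, fun hf => hU1 ?_⟩
  have hb := bijective_of_finite hd hf
  have h1 : IsIso (CommRingCat.ofHom (algebraMap k A)) :=
    (ConcreteCategory.isIso_iff_bijective (CommRingCat.ofHom (algebraMap k A))).mpr hb
  have h2 : IsIso (SpecOver k A).hom := inferInstanceAs (IsIso (Spec.map (CommRingCat.ofHom (algebraMap k A))))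
  change IsIso U.hom
  rw [← Over.w e.hom]
  infer_instance

end K494.UTFin
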