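import Groth.Agent.Sga3B.AffPts
import Mathlib.AlgebraicGeometry.Morphisms.Flat
import Mathlib.RingTheory.IsTensorProduct

/-!
# Functions on `G × T` for an affine group `G = Spec A` over a field

* `fn ε g W : A → Γ(T, W)` : the functions on `W ⊆ T` coming from a point `g : T ⟶ G`;
* `fn_mul` : multiplicativity through the comultiplication;
* `bas` : for `W ⊆ T` affine and a basis `e` of `A`, the basis of `Γ(G × T, snd⁻¹ W)` over `Γ(T, W)`.
-/

set_option autoImplicit false
universe u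
open CategoryTheory MonoidalCategory CartesianMonoidalCategory MonObj AlgebraicGeometry Limits
open scoped TensorProduct
open Groth.Agent.Books.AffBridge Groth.Agent.Sga3B.AffPts WithConv

namespace K494.UTFn

variable {k : Type u} [Field k] {A : Type u} [CommRing A] [HopfAlgebra k A]
  {G : Over (Spec (CommRingCat.of k))} (ε : G ≅ SpecOver k A)

lemma le_pre {X Y : Scheme.{u}} (f : X ⟶ Y) (W : X.Opens) : W ≤ f ⁻¹ᵁ ⊤ := fun _ _ => trivial

/-- the morphism of schemes underlying a point -/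
noncomputable def mor {T : Over (Spec (CommRingCat.of k))} (g : T ⟶ G) : T.left ⟶ Spec (CommRingCat.of A) :=
  (g ≫ ε.hom).left

lemma comp_mor {T T' : Over (Spec (CommRingCat.of k))} (t : T' ⟶ T) (g : T ⟶ G) :
    mor ε (t ≫ g) = t.left ≫ mor ε g := by
  rw [mor, mor, Category.assoc]; rfl

/-- the functions on `W ⊆ T` coming from a point `g : T ⟶ G`. -/
noncomputable def fnC {T : Over (Spec (CommRingCat.of k))} (g : T ⟶ G) (W : T.left.Opens) :
    CommRingCat.of A ⟶ Γ(T.left, W) :=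
  (Scheme.ΓSpecIso (CommRingCat.of A)).inv ≫ (mor ε g).appLE ⊤ W (le_pre _ W)

/-- the functions on `W ⊆ T` coming from a point `g : T ⟶ G`. -/
noncomputable def fn {T : Over (Spec (CommRingCat.of k))} (g : T ⟶ G) (W : T.left.Opens) : A →+* Γ(T.left, W) :=
  (fnC ε g W).hom

lemma appLE_fn {T T' : Over (Spec (CommRingCat.of k))} (t : T' ⟶ T) (g : T ⟶ G) (W : T.left.Opens)
    (W' : T'.left.Opens) (h : W' ≤ t.left ⁻¹ᵁ W) (a : A) :
    (t.left.appLE W W' h).hom (fn ε g W a) = fn ε (t ≫ g) W' a := by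
  have : fnC ε g W ≫ t.left.appLE W W' h = fnC ε (t ≫ g) W' := by
    rw [fnC, fnC, Category.assoc, Scheme.Hom.appLE_comp_appLE]
    simp only [comp_mor]
  exact congr(CommRingCat.Hom.hom $this a)

lemma map_fn {T : Over (Spec (CommRingCat.of k))} (g : T ⟶ G) (W W' : T.left.Opens) (h : W' ≤ W) (a : A) :
    (T.left.presheaf.map (homOfLE h).op).hom (fn ε g W a) = fn ε g W' a := by
  have : fnC ε g W ≫ T.left.presheaf.map (homOfLE h).op = fnC ε g W' := by
    rw [fnC, fnC, Category.assoc, Scheme.Hom.appLE_map]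
  exact congr(CommRingCat.Hom.hom $this a)

/-- the value of the algebra map of a point. -/
lemma affEquiv_symm_apply {T : Over (Spec (CommRingCat.of k))} (φ : T ⟶ SpecOver k A) (a : A) :
    ((affEquiv T).symm φ).ofConv a = ((Scheme.ΓSpecIso (CommRingCat.of A)).inv ≫
      Scheme.Hom.appTop (Y := Spec (CommRingCat.of A)) φ.left).hom a := by
  obtain ⟨f, rfl⟩ := (affEquiv T).surjective φ
  rw [MulEquiv.symm_apply_apply, affEquiv_apply]
  have h : (Scheme.ΓSpecIso (CommRingCat.of A)).inv ≫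
      Scheme.Hom.appTop (Y := Spec (CommRingCat.of A)) (affPt T f.ofConv).left =
      CommRingCat.ofHom f.ofConv.toRingHom := by
    have h1 : Scheme.Hom.appTop (Y := Spec (CommRingCat.of A)) (affPt T f.ofConv).left =
        (Spec.map (CommRingCat.ofHom f.ofConv.toRingHom)).appTop ≫ T.left.toSpecΓ.appTop :=
      Scheme.Hom.comp_appTop T.left.toSpecΓ (Spec.map (CommRingCat.ofHom f.ofConv.toRingHom))
    rw [h1, Scheme.toSpecΓ_appTop]
    refine (congrArg _ (Scheme.ΓSpecIso_naturality (CommRingCat.ofHom f.ofConv.toRingHom))).trans ?_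
    exact Iso.inv_hom_id_assoc _ _
  exact congr(CommRingCat.Hom.hom $h a).symm

lemma fn_eq {T : Over (Spec (CommRingCat.of k))} (g : T ⟶ G) (W : T.left.Opens) (a : A) :
    fn ε g W a = (T.left.presheaf.map (homOfLE (le_top : W ≤ ⊤)).op).hom (((affEquiv T).symm (g ≫ ε.hom)).ofConv a) := by
  rw [affEquiv_symm_apply]
  rfl

lemma fn_mul [GrpObj G] [IsMonHom ε.hom] {T : Over (Spec (CommRingCat.of k))} (g h : T ⟶ G) (W : T.left.Opens)
    (a : A) {J : Type*}
    (s : Finset J) (x y : J → A) (ha : CoalgebraStruct.comul (R := k) a = ∑ i ∈ s, x i ⊗ₜ[k] y i) :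
    fn ε (g * h) W a = ∑ i ∈ s, fn ε g W (x i) * fn ε h W (y i) := by
  have h1 : (g * h) ≫ ε.hom = (g ≫ ε.hom) * (h ≫ ε.hom) := MonObj.mul_comp _ _ _
  have h2 : ((affEquiv T).symm ((g * h) ≫ ε.hom)).ofConv a =
      ∑ i ∈ s, ((affEquiv T).symm (g ≫ ε.hom)).ofConv (x i) * ((affEquiv T).symm (h ≫ ε.hom)).ofConv (y i) := by
    rw [h1, map_mul, AlgHom.convMul_apply, ha, map_sum]
    refine Finset.sum_congr rfl fun i _ => ?_
    simp
  rw [fn_eq, h2]
  refine (map_sum (T.left.presheaf.map (homOfLE (le_top : W ≤ ⊤)).op).hom _ s).trans ?_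
  refine Finset.sum_congr rfl fun i _ => ?_
  rw [fn_eq, fn_eq]
  exact map_mul (T.left.presheaf.map (homOfLE (le_top : W ≤ ⊤)).op).hom _ _

/-- the structure of `Γ(T, W)` over `k` -/
noncomputable def kC (T : Over (Spec (CommRingCat.of k))) (W : T.left.Opens) : CommRingCat.of k ⟶ Γ(T.left, W) :=
  (Scheme.ΓSpecIso (CommRingCat.of k)).inv ≫ T.hom.appLE ⊤ W (le_pre _ W)

lemma isPullback_snd (G T : Over (Spec (CommRingCat.of k))) :
    IsPullback (fst G T).left (snd G T).left G.hom T.hom := by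
  rw [Over.fst_left, Over.snd_left]
  exact IsPullback.of_hasPullback _ _

lemma isPullback_mor (T : Over (Spec (CommRingCat.of k))) :
    IsPullback (mor ε (fst G T)) (snd G T).left (Spec.map (CommRingCat.ofHom (algebraMap k A))) T.hom := by
  have h1 : IsPullback (ε.hom.left : G.left ⟶ Spec (CommRingCat.of A)) G.hom
      (Spec.map (CommRingCat.ofHom (algebraMap k A))) (𝟙 _) := by
    apply IsPullback.of_horiz_isIso
    refine ⟨?_⟩
    rw [Category.comp_id]
    exact Over.w ε.hom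
  have h2 := (isPullback_snd G T).paste_horiz h1
  rw [Category.comp_id] at h2
  exact h2

/-- functions on the preimage of an affine open form a tensor product. -/
theorem isPushout_fn (T : Over (Spec (CommRingCat.of k))) {W : T.left.Opens} (hW : IsAffineOpen W) :
    IsPushout (CommRingCat.ofHom (algebraMap k A)) (kC T W) (fnC ε (fst G T) ((snd G T).left ⁻¹ᵁ W))
      ((snd G T).left.appLE W ((snd G T).left ⁻¹ᵁ W) le_rfl) := by
  have H := isPullback_mor ε T
  have h1 : (snd G T).left ⁻¹ᵁ W = mor ε (fst G T) ⁻¹ᵁ ⊤ ⊓ (snd G T).left ⁻¹ᵁ W :=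
    (top_inf_eq _).symm
  have h2 := (isIso_pushoutSection_iff H (US := ⊤) (le_pre T.hom W) (le_pre _ ⊤) h1).mp
    (isIso_pushoutSection_of_isAffineOpen H (US := ⊤) _ _ h1 (isAffineOpen_top _) hW (isAffineOpen_top _))
  refine h2.of_iso (Scheme.ΓSpecIso (CommRingCat.of k)) (Scheme.ΓSpecIso (CommRingCat.of A)) (Iso.refl _) (Iso.refl _)
    ?_ ?_ ?_ ?_
  · exact Scheme.ΓSpecIso_naturality (CommRingCat.ofHom (algebraMap k A))
  · rw [kC, Iso.hom_inv_id_assoc, Iso.refl_hom, Category.comp_id]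
  · rw [fnC, Iso.hom_inv_id_assoc, Iso.refl_hom, Category.comp_id]
  · rw [Iso.refl_hom, Iso.refl_hom, Category.comp_id, Category.id_comp]

/-- the module structure of the functions on the product -/
noncomputable abbrev algSnd (G T : Over (Spec (CommRingCat.of k))) (W : T.left.Opens) :
    Algebra Γ(T.left, W) Γ((G ⊗ T).left, (snd G T).left ⁻¹ᵁ W) :=
  ((snd G T).left.appLE W ((snd G T).left ⁻¹ᵁ W) le_rfl).hom.toAlgebra

/-- the basis of the functions on the product -/
theorem exists_basis (T : Over (Spec (CommRingCat.of k))) {W : T.left.Opens} (hW : IsAffineOpen W)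
    (e : Module.Basis ℕ k A) :
    letI := algSnd G T W
    ∃ b : Module.Basis ℕ Γ(T.left, W) Γ((G ⊗ T).left, (snd G T).left ⁻¹ᵁ W),
      ∀ i, b i = fn ε (fst G T) _ (e i) := by
  letI := algSnd G T W
  letI : Algebra k Γ(T.left, W) := (kC T W).hom.toAlgebra
  letI : Algebra A Γ((G ⊗ T).left, (snd G T).left ⁻¹ᵁ W) := (fn ε (fst G T) ((snd G T).left ⁻¹ᵁ W)).toAlgebra
  letI : Algebra k Γ((G ⊗ T).left, (snd G T).left ⁻¹ᵁ W) :=
    ((algebraMap Γ(T.left, W) Γ((G ⊗ T).left, (snd G T).left ⁻¹ᵁ W)).comp (algebraMap k Γ(T.left, W))).toAlgebra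
  have h := isPushout_fn ε T hW
  haveI : IsScalarTower k Γ(T.left, W) Γ((G ⊗ T).left, (snd G T).left ⁻¹ᵁ W) := IsScalarTower.of_algebraMap_eq fun _ => rfl
  haveI : IsScalarTower k A Γ((G ⊗ T).left, (snd G T).left ⁻¹ᵁ W) :=
    IsScalarTower.of_algebraMap_eq fun r => congr(CommRingCat.Hom.hom $(h.w) r).symm
  have h2 : Algebra.IsPushout k Γ(T.left, W) A Γ((G ⊗ T).left, (snd G T).left ⁻¹ᵁ W) :=
    CommRingCat.isPushout_iff_isPushout.mp h.flip
  let b' : Module.Basis ℕ Γ(T.left, W) (Γ(T.left, W) ⊗[k] A) := Algebra.TensorProduct.basis _ e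
  refine ⟨b'.map h2.out.equiv, fun i => ?_⟩
  rw [Module.Basis.map_apply, Algebra.TensorProduct.basis_apply, IsBaseChange.equiv_tmul, one_smul]
  rfl

end K494.UTFn
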