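import Groth.Agent.AGF.K494.UT.Fn
import Groth.Agent.AGF.K494.UT.Alg
import Groth.Agent.NonAbH1.K552.Push

/-!
# Coordinates of the functions on a scheme with an action of a unipotent group over a base
-/

set_option autoImplicit false
universe u
open CategoryTheory MonoidalCategory CartesianMonoidalCategory MonObj AlgebraicGeometry Limits TopologicalSpace
open scoped TensorProduct
open Groth.Agent.Books.AffBridge Groth.Agent.Sga3B.AffPts Groth.Agent.Books.BorelOrb K494.UTFn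

namespace K494.UTGeo

section Pl

variable {Y Z Z' Z'' : Scheme.{u}}

/-- pullback of functions for a morphism over `Y`. -/
noncomputable def pl (t : Z' ⟶ Z) {r : Z ⟶ Y} {r' : Z' ⟶ Y} (ht : t ≫ r = r') (V : Y.Opens) :
    Γ(Z, r ⁻¹ᵁ V) →+* Γ(Z', r' ⁻¹ᵁ V) :=
  (t.appLE (r ⁻¹ᵁ V) (r' ⁻¹ᵁ V) (by subst ht; exact le_rfl)).hom

lemma pl_pl (t : Z' ⟶ Z) (t' : Z'' ⟶ Z') {r : Z ⟶ Y} {r' : Z' ⟶ Y} {r'' : Z'' ⟶ Y} (ht : t ≫ r = r')
    (ht' : t' ≫ r' = r'') (ht'' : (t' ≫ t) ≫ r = r'') (V : Y.Opens) (f : Γ(Z, r ⁻¹ᵁ V)) :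
    pl t' ht' V (pl t ht V f) = pl (t' ≫ t) ht'' V f := by
  simp only [pl]
  rw [← CommRingCat.comp_apply, Scheme.Hom.appLE_comp_appLE]

/-- restriction of functions -/
noncomputable def rs (r : Z ⟶ Y) {V V' : Y.Opens} (h : V' ≤ V) : Γ(Z, r ⁻¹ᵁ V) →+* Γ(Z, r ⁻¹ᵁ V') :=
  (Z.presheaf.map (homOfLE (r.preimage_mono h)).op).hom

lemma rs_pl (t : Z' ⟶ Z) {r : Z ⟶ Y} {r' : Z' ⟶ Y} (ht : t ≫ r = r') {V V' : Y.Opens} (h : V' ≤ V)
    (f : Γ(Z, r ⁻¹ᵁ V)) : rs r' h (pl t ht V f) = pl t ht V' (rs r h f) := by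
  simp only [pl, rs]
  rw [← CommRingCat.comp_apply, ← CommRingCat.comp_apply, Scheme.Hom.appLE_map, Scheme.Hom.map_appLE]

end Pl

section Indep

variable {k : Type u} [Field k] {A : Type u} [CommRing A] [HopfAlgebra k A]
  {G : Over (Spec (CommRingCat.of k))} (ε : G ≅ SpecOver k A)

/-- the structure map of the functions on the product -/
noncomputable def sd (G T : Over (Spec (CommRingCat.of k))) (W : T.left.Opens) :
    Γ(T.left, W) →+* Γ((G ⊗ T).left, (snd G T).left ⁻¹ᵁ W) :=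
  ((snd G T).left.appLE W ((snd G T).left ⁻¹ᵁ W) le_rfl).hom

lemma indep_affine (T : Over (Spec (CommRingCat.of k))) {W : T.left.Opens} (hW : IsAffineOpen W)
    (e : Module.Basis ℕ k A) (n : ℕ) (y z : ℕ → Γ(T.left, W))
    (h : ∑ i ∈ Finset.range n, fn ε (fst G T) ((snd G T).left ⁻¹ᵁ W) (e i) * sd G T W (y i) =
      ∑ i ∈ Finset.range n, fn ε (fst G T) ((snd G T).left ⁻¹ᵁ W) (e i) * sd G T W (z i)) :
    ∀ i < n, y i = z i := by
  letI := algSnd G T W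
  obtain ⟨b, hb⟩ := exists_basis ε T hW e
  have h1 : ∀ y : ℕ → Γ(T.left, W), ∑ i ∈ Finset.range n, fn ε (fst G T) ((snd G T).left ⁻¹ᵁ W) (e i) * sd G T W (y i) =
      ∑ i ∈ Finset.range n, y i • b i := by
    intro y
    refine Finset.sum_congr rfl fun i _ => ?_
    rw [hb, Algebra.smul_def, mul_comm]
    rfl
  rw [h1, h1, ← sub_eq_zero, ← Finset.sum_sub_distrib] at h
  simp only [← sub_smul] at h
  have h2 := (linearIndependent_iff'.mp b.linearIndependent) (Finset.range n) (fun i => y i - z i) h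
  intro i hi
  exact sub_eq_zero.mp (h2 i (Finset.mem_range.mpr hi))

lemma indep (T : Over (Spec (CommRingCat.of k))) (W : T.left.Opens)
    (e : Module.Basis ℕ k A) (n : ℕ) (y z : ℕ → Γ(T.left, W))
    (h : ∑ i ∈ Finset.range n, fn ε (fst G T) ((snd G T).left ⁻¹ᵁ W) (e i) * sd G T W (y i) =
      ∑ i ∈ Finset.range n, fn ε (fst G T) ((snd G T).left ⁻¹ᵁ W) (e i) * sd G T W (z i)) :
    ∀ i < n, y i = z i := by
  intro i hi
  refine TopCat.Sheaf.eq_of_locally_eq' T.left.sheaf (fun W' : {W' : T.left.Opens // IsAffineOpen W' ∧ W' ≤ W} => W'.1)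
    W (fun W' => homOfLE W'.2.2) ?_ _ _ ?_
  · intro x hx
    obtain ⟨V, hV, hxV, hVW⟩ := exists_isAffineOpen_mem_and_subset (U := W) hx
    exact Opens.mem_iSup.mpr ⟨⟨V, hV, hVW⟩, hxV⟩
  · rintro ⟨W', hW', hle⟩
    have h3 : (snd G T).left ⁻¹ᵁ W' ≤ (snd G T).left ⁻¹ᵁ W := (snd G T).left.preimage_mono hle
    have h1 : ∀ y : ℕ → Γ(T.left, W), ((G ⊗ T).left.presheaf.map (homOfLE h3).op).hom
        (∑ i ∈ Finset.range n, fn ε (fst G T) ((snd G T).left ⁻¹ᵁ W) (e i) * sd G T W (y i)) =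
        ∑ i ∈ Finset.range n, fn ε (fst G T) ((snd G T).left ⁻¹ᵁ W') (e i) *
          sd G T W' ((T.left.presheaf.map (homOfLE hle).op).hom (y i)) := by
      intro y
      rw [map_sum]
      refine Finset.sum_congr rfl fun i _ => ?_
      rw [map_mul, map_fn]
      congr 1
      simp only [sd]
      rw [← CommRingCat.comp_apply, ← CommRingCat.comp_apply, Scheme.Hom.appLE_map, Scheme.Hom.map_appLE]
    have h2 := congrArg (((G ⊗ T).left.presheaf.map (homOfLE h3).op).hom) h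
    rw [h1, h1] at h2
    exact indep_affine ε T hW' e n _ _ h2 i hi

end Indep

section Act

variable {k : Type u} [Field k] {A : Type u} [CommRing A] [HopfAlgebra k A]
  {G X : Over (Spec (CommRingCat.of k))} [GrpObj G] (ε : G ≅ SpecOver k A)
  (b : AlgGrp.Action G X) {Y : Scheme.{u}} (π : X.left ⟶ Y) (hπ : b.act.left ≫ π = (snd G X).left ≫ π)

/-- `f(g x) = ∑_{j < n} e_j(g) c_j(x)` over `V`. -/
def Rep (e : ℕ → A) (n : ℕ) (V : Y.Opens) (f : Γ(X.left, π ⁻¹ᵁ V)) (c : ℕ → Γ(X.left, π ⁻¹ᵁ V)) : Prop :=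
  pl b.act.left hπ V f = ∑ j ∈ Finset.range n, fn ε (fst G X) (((snd G X).left ≫ π) ⁻¹ᵁ V) (e j) *
    pl (snd G X).left (r' := (snd G X).left ≫ π) rfl V (c j)

include hπ in
lemma sm_comp {T : Over (Spec (CommRingCat.of k))} (g : T ⟶ G) (x : T ⟶ X) {r : T.left ⟶ Y} (hx : x.left ≫ π = r) :
    (sm b g x).left ≫ π = r := by
  rw [sm, Over.comp_left, Category.assoc, hπ, ← Category.assoc, ← Over.comp_left, lift_snd, hx]

variable {ε b π hπ} in
lemma Rep.expand {e : ℕ → A} {n : ℕ} {V : Y.Opens} {f : Γ(X.left, π ⁻¹ᵁ V)} {c : ℕ → Γ(X.left, π ⁻¹ᵁ V)}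
    (h : Rep ε b π hπ e n V f c) {T : Over (Spec (CommRingCat.of k))} (g : T ⟶ G) (x : T ⟶ X) {r : T.left ⟶ Y}
    (hx : x.left ≫ π = r) :
    pl (sm b g x).left (sm_comp b π hπ g x hx) V f =
      ∑ j ∈ Finset.range n, fn ε g (r ⁻¹ᵁ V) (e j) * pl x.left hx V (c j) := by
  have hr : (lift g x).left ≫ (snd G X).left ≫ π = r := by
    rw [← Category.assoc, ← Over.comp_left, lift_snd, hx]
  have h1 := congrArg (pl (lift g x).left hr V) h
  rw [pl_pl (ht'' := sm_comp b π hπ g x hx), map_sum] at h1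
  refine h1.trans (Finset.sum_congr rfl fun j _ => ?_)
  rw [map_mul]
  have h2 : pl (lift g x).left hr V (fn ε (fst G X) (((snd G X).left ≫ π) ⁻¹ᵁ V) (e j)) = fn ε g (r ⁻¹ᵁ V) (e j) := by
    rw [pl, appLE_fn]
    simp only [lift_fst]
  have h3 : pl (lift g x).left hr V (pl (snd G X).left (r' := (snd G X).left ≫ π) rfl V (c j)) =
      pl x.left hx V (c j) := by
    have h4 : ((lift g x).left ≫ (snd G X).left) ≫ π = r := by rw [Category.assoc]; exact hr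
    rw [pl_pl (ht'' := h4)]
    have h5 : (lift g x).left ≫ (snd G X).left = x.left := by rw [← Over.comp_left, lift_snd]
    simp only [h5]
  rw [h2, h3]

variable {ε b π hπ} in
lemma Rep.restrict {e : ℕ → A} {n : ℕ} {V V' : Y.Opens} {f : Γ(X.left, π ⁻¹ᵁ V)} {c : ℕ → Γ(X.left, π ⁻¹ᵁ V)}
    (h : Rep ε b π hπ e n V f c) (hV : V' ≤ V) :
    Rep ε b π hπ e n V' (rs π hV f) (fun j => rs π hV (c j)) := by
  have h1 := congrArg (rs ((snd G X).left ≫ π) hV) h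
  rw [rs_pl, map_sum] at h1
  refine h1.trans (Finset.sum_congr rfl fun j _ => ?_)
  rw [map_mul, rs_pl]
  congr 1
  exact map_fn ε _ _ _ _ _

variable {ε b π hπ} in
lemma Rep.unique {e : Module.Basis ℕ k A} {n : ℕ} {V : Y.Opens} {f : Γ(X.left, π ⁻¹ᵁ V)}
    {c c' : ℕ → Γ(X.left, π ⁻¹ᵁ V)} (h : Rep ε b π hπ e n V f c) (h' : Rep ε b π hπ e n V f c') :
    ∀ i < n, c i = c' i :=
  indep ε X (π ⁻¹ᵁ V) e n c c' (h.symm.trans h')

variable {ε b π hπ} in
lemma Rep.add {e : ℕ → A} {n : ℕ} {V : Y.Opens} {f f' : Γ(X.left, π ⁻¹ᵁ V)}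
    {c c' : ℕ → Γ(X.left, π ⁻¹ᵁ V)} (h : Rep ε b π hπ e n V f c) (h' : Rep ε b π hπ e n V f' c') :
    Rep ε b π hπ e n V (f + f') (fun j => c j + c' j) := by
  unfold Rep at h h' ⊢
  rw [map_add, h, h', ← Finset.sum_add_distrib]
  refine Finset.sum_congr rfl fun j _ => ?_
  rw [map_add, mul_add]

variable {ε b π hπ} in
lemma Rep.smul {e : ℕ → A} {n : ℕ} {V : Y.Opens} {f : Γ(X.left, π ⁻¹ᵁ V)}
    {c : ℕ → Γ(X.left, π ⁻¹ᵁ V)} (h : Rep ε b π hπ e n V f c) (r : Γ(Y, V)) :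
    Rep ε b π hπ e n V ((π.app V).hom r * f) (fun j => (π.app V).hom r * c j) := by
  unfold Rep at h ⊢
  have h1 : ∀ (t : (G ⊗ X).left ⟶ X.left) (ht : t ≫ π = (snd G X).left ≫ π),
      pl t ht V ((π.app V).hom r) = ((((snd G X).left ≫ π).app V)).hom r := by
    intro t ht
    simp only [pl]
    rw [← CommRingCat.comp_apply]
    have : π.app V ≫ t.appLE (π ⁻¹ᵁ V) (((snd G X).left ≫ π) ⁻¹ᵁ V) (by rw [← ht]; exact le_rfl) =
        (t ≫ π).appLE V (((snd G X).left ≫ π) ⁻¹ᵁ V) (by rw [ht]) := by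
      rw [← Scheme.Hom.appLE_eq_app (f := π)]
      exact Scheme.Hom.appLE_comp_appLE _ _ _ _ _ _ _
    rw [this]
    simp only [ht, Scheme.Hom.appLE_eq_app]
  rw [map_mul, h1, h, Finset.mul_sum]
  refine Finset.sum_congr rfl fun j _ => ?_
  rw [map_mul, h1]
  ring

lemma Rep.zero {e : ℕ → A} {n : ℕ} {V : Y.Opens} : Rep ε b π hπ e n V 0 (fun _ => 0) := by
  unfold Rep
  rw [map_zero]
  refine (Finset.sum_eq_zero fun j _ => ?_).symm
  rw [map_zero, mul_zero]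

variable {ε b π hπ} in
lemma Rep.succ {e : ℕ → A} {n : ℕ} {V : Y.Opens} {f : Γ(X.left, π ⁻¹ᵁ V)}
    {c : ℕ → Γ(X.left, π ⁻¹ᵁ V)} (h : Rep ε b π hπ e (n + 1) V f c) (h0 : c n = 0) :
    Rep ε b π hπ e n V f c := by
  unfold Rep at h ⊢
  rw [h, Finset.sum_range_succ, h0, map_zero, mul_zero, add_zero]

variable {ε b π hπ} in
lemma Rep.of_le {e : ℕ → A} {n m : ℕ} (hnm : n ≤ m) {V : Y.Opens} {f : Γ(X.left, π ⁻¹ᵁ V)}
    {c : ℕ → Γ(X.left, π ⁻¹ᵁ V)} (h : Rep ε b π hπ e n V f c) :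
    Rep ε b π hπ e m V f (fun j => if j < n then c j else 0) := by
  unfold Rep at h ⊢
  rw [h]
  symm
  rw [← Finset.sum_subset (Finset.range_mono hnm)]
  · refine Finset.sum_congr rfl fun j hj => ?_
    have h5 : (fun j => if j < n then c j else 0) j = c j := if_pos (Finset.mem_range.mp hj)
    rw [h5]
  · intro j _ hj
    have h5 : (fun j => if j < n then c j else 0) j = 0 := if_neg fun h => hj (Finset.mem_range.mpr h)
    rw [h5, map_zero, mul_zero]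

variable {ε b π hπ} in
/-- the coordinates of a function under the action -/
theorem Rep.coact [IsMonHom ε.hom] {e : Module.Basis ℕ k A} {u : ℕ → ℕ → A} {n : ℕ}
    (hu : ∀ j < n, CoalgebraStruct.comul (R := k) (e j) = ∑ i ∈ Finset.range n, e i ⊗ₜ[k] u i j)
    {V : Y.Opens} {f : Γ(X.left, π ⁻¹ᵁ V)} {c : ℕ → Γ(X.left, π ⁻¹ᵁ V)}
    (h : Rep ε b π hπ e n V f c) {T : Over (Spec (CommRingCat.of k))} (g : T ⟶ G) (x : T ⟶ X) {r : T.left ⟶ Y}
    (hx : x.left ≫ π = r) (i : ℕ) (hi : i < n) :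
    pl (sm b g x).left (sm_comp b π hπ g x hx) V (c i) =
      ∑ j ∈ Finset.range n, fn ε g (r ⁻¹ᵁ V) (u i j) * pl x.left hx V (c j) := by
  refine indep ε T (r ⁻¹ᵁ V) e n (fun i => pl (sm b g x).left (sm_comp b π hπ g x hx) V (c i))
    (fun i => ∑ j ∈ Finset.range n, fn ε g (r ⁻¹ᵁ V) (u i j) * pl x.left hx V (c j)) ?_ i hi
  -- the points of `G × T`
  have hx3 : (snd G T ≫ x).left ≫ π = (snd G T).left ≫ r := by
    rw [Over.comp_left, Category.assoc, hx]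
  have e1 := h.expand (fst G T) (sm b (snd G T ≫ g) (snd G T ≫ x)) (sm_comp b π hπ _ _ hx3)
  have e2 := h.expand (fst G T * (snd G T ≫ g)) (snd G T ≫ x) hx3
  have e3 : sm b (fst G T * (snd G T ≫ g)) (snd G T ≫ x) = sm b (fst G T) (sm b (snd G T ≫ g) (snd G T ≫ x)) :=
    mul_sm b _ _ _
  simp only [e3] at e2
  have e4 := e1.symm.trans e2
  refine (Eq.trans ?_ e4).trans ?_
  · refine Finset.sum_congr rfl fun j _ => ?_
    congr 1
    have h1 : pl (sm b (snd G T ≫ g) (snd G T ≫ x)).left (sm_comp b π hπ _ _ hx3) V (c j) =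
        pl (snd G T ≫ sm b g x).left (by rw [Over.comp_left, Category.assoc, sm_comp b π hπ g x hx]) V (c j) := by
      simp only [comp_sm]
    rw [h1]
    exact pl_pl (sm b g x).left (snd G T).left (sm_comp b π hπ g x hx) rfl _ V (c j)
  · have h2 : ∀ j < n, fn ε (fst G T * (snd G T ≫ g)) (((snd G T).left ≫ r) ⁻¹ᵁ V) (e j) =
        ∑ i ∈ Finset.range n, fn ε (fst G T) (((snd G T).left ≫ r) ⁻¹ᵁ V) (e i) *
          fn ε (snd G T ≫ g) (((snd G T).left ≫ r) ⁻¹ᵁ V) (u i j) :=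
      fun j hj => fn_mul ε _ _ _ _ _ _ _ (hu j hj)
    have h3 : ∀ j ∈ Finset.range n, fn ε (fst G T * (snd G T ≫ g)) (((snd G T).left ≫ r) ⁻¹ᵁ V) (e j) *
        pl (snd G T ≫ x).left hx3 V (c j) = ∑ i ∈ Finset.range n, fn ε (fst G T) (((snd G T).left ≫ r) ⁻¹ᵁ V) (e i) *
          (fn ε (snd G T ≫ g) (((snd G T).left ≫ r) ⁻¹ᵁ V) (u i j) * pl (snd G T ≫ x).left hx3 V (c j)) := by
      intro j hj
      rw [h2 j (Finset.mem_range.mp hj), Finset.sum_mul]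
      exact Finset.sum_congr rfl fun i _ => mul_assoc _ _ _
    rw [Finset.sum_congr rfl h3, Finset.sum_comm]
    refine Finset.sum_congr rfl fun i _ => ?_
    rw [← Finset.mul_sum]
    congr 1
    have h4 : ∀ z, sd G T (r ⁻¹ᵁ V) z = pl (snd G T).left (r' := (snd G T).left ≫ r) rfl V z := fun _ => rfl
    rw [h4, map_sum]
    refine Finset.sum_congr rfl fun j _ => ?_
    rw [map_mul]
    congr 1
    · exact (appLE_fn ε (snd G T) g (r ⁻¹ᵁ V) _ _ _).symm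
    · exact (pl_pl x.left (snd G T).left hx rfl hx3 V (c j)).symm

variable {ε b π hπ} in
/-- the leading coefficient is invariant -/
theorem Rep.lead [IsMonHom ε.hom] {e : Module.Basis ℕ k A} {u : ℕ → ℕ → A} (hu1 : ∀ j, u j j = 1)
    (hu0 : ∀ i j, j < i → u i j = 0)
    (hu : ∀ j, CoalgebraStruct.comul (R := k) (e j) = ∑ i ∈ Finset.range (j + 1), e i ⊗ₜ[k] u i j)
    {n : ℕ} {V : Y.Opens} {f : Γ(X.left, π ⁻¹ᵁ V)} {c : ℕ → Γ(X.left, π ⁻¹ᵁ V)}
    (h : Rep ε b π hπ e (n + 1) V f c) :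
    pl b.act.left hπ V (c n) = pl (snd G X).left (r' := (snd G X).left ≫ π) rfl V (c n) := by
  have hu' : ∀ m, ∀ j < m, CoalgebraStruct.comul (R := k) (e j) = ∑ i ∈ Finset.range m, e i ⊗ₜ[k] u i j := by
    intro m j hj
    rw [hu]
    refine Finset.sum_subset (Finset.range_mono hj) fun i _ hi => ?_
    rw [hu0 i j (by simpa using hi), TensorProduct.tmul_zero]
  have h1 := h.coact (hu' (n + 1)) (fst G X) (snd G X) rfl n (Nat.lt_succ_self n)
  have h2 : sm b (fst G X) (snd G X) = b.act := by rw [sm, lift_fst_snd, Category.id_comp]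
  simp only [h2] at h1
  rw [h1, Finset.sum_range_succ, hu1, map_one, _root_.one_mul]
  rw [Finset.sum_eq_zero, zero_add]
  intro j hj
  rw [hu0 n j (Finset.mem_range.mp hj), map_zero, zero_mul]

end Act

end K494.UTGeo
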