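import Groth.Agent.AGF.K494.UT.Aff
import Groth.Agent.Ega1.SubSheaf
import Groth.Prelude.Def_Coh
import Mathlib.CategoryTheory.Subobject.Lattice
import Mathlib.CategoryTheory.Abelian.Basic

/-!
# The filtration of `π_* O_X` for a torsor `π : X ⟶ Y` under a unipotent group
-/

set_option autoImplicit false
universe u
open CategoryTheory MonoidalCategory CartesianMonoidalCategory MonObj AlgebraicGeometry Limits TopologicalSpace
open scoped TensorProduct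
open Groth.Agent.Books.AffBridge Groth.Agent.Sga3B.AffPts Groth.Agent.Books.BorelOrb K494.UTFn K494.UTGeo K494.UTAff
open Groth.Agent.Ega1 Groth.Agent.Ega1.SubSheaf

namespace K494.UTShf

section General

/-- A morphism of modules which is surjective on affine opens is epi. -/
lemma epi_of_affine {Y : Scheme.{u}} {M N : Y.Modules} (g : M ⟶ N)
    (h : ∀ V : Y.Opens, IsAffineOpen V → Function.Surjective (g.app V)) : Epi g := by
  refine Preadditive.epi_of_cancel_zero g fun {Z} k hk => ?_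
  apply Scheme.Modules.hom_ext
  intro U
  ext t
  refine section_ext Z _ _ fun x hx => ?_
  obtain ⟨V, hV, hxV, hVU⟩ := exists_isAffineOpen_mem_and_subset (U := U) hx
  refine ⟨V, hVU, hxV, ?_⟩
  obtain ⟨s, hs⟩ := h V hV (res N hVU t)
  have h2 : k.app V (g.app V s) = 0 := by
    change (g ≫ k).app V s = 0
    rw [hk]
    rfl
  rw [hs, app_res] at h2
  rw [h2]
  exact (map_zero _).symm

lemma nonempty_cokernel_iso {C : Type*} [Category C] [Abelian C] {A B D : C} (i : A ⟶ B) (p : B ⟶ D) [Mono i]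
    [Epi p] (w : i ≫ p = 0) (h : ∀ {K : C} (f : K ⟶ B), f ≫ p = 0 → ∃ g, g ≫ i = f) :
    Nonempty (cokernel i ≅ D) := by
  have hk : IsLimit (KernelFork.ofι i w) :=
    KernelFork.IsLimit.ofι i w (fun f hf => (h f hf).choose) (fun f hf => (h f hf).choose_spec)
      (fun f hf m hm => by rw [← cancel_mono i, hm, (h f hf).choose_spec])
  exact ⟨(cokernelIsCokernel i).coconePointUniqueUpToIso (Abelian.epiIsCokernelOfKernel _ hk)⟩

end General

variable {k : Type u} [Field k] {A : Type u} [CommRing A] [HopfAlgebra k A]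
  {G X : Over (Spec (CommRingCat.of k))} [GrpObj G] (ε : G ≅ SpecOver k A)
  (b : AlgGrp.Action G X) {Y : Scheme.{u}} (π : X.left ⟶ Y) (hπ : b.act.left ≫ π = (snd G X).left ≫ π)
  (e : Module.Basis ℕ k A)

/-- the direct image of the structure sheaf -/
noncomputable abbrev Mo : Y.Modules := (Scheme.Modules.pushforward π).obj (Coh.structureModule X.left)

/-- sections of the direct image -/
noncomputable def toM {V : Y.Opens} (f : Γ(X.left, π ⁻¹ᵁ V)) : Γ(Mo π, V) := f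
/-- sections of the direct image -/
noncomputable def ofM {V : Y.Opens} (f : Γ(Mo π, V)) : Γ(X.left, π ⁻¹ᵁ V) := f

omit [GrpObj G] in
lemma smul_eq {V : Y.Opens} (r : Γ(Y, V)) (f : Γ(Mo π, V)) :
    ofM π (r • f) = (π.app V).hom r * ofM π f := rfl

omit [GrpObj G] in
lemma add_eq {V : Y.Opens} (f f' : Γ(Mo π, V)) : ofM π (f + f') = ofM π f + ofM π f' := rfl

omit [GrpObj G] in
lemma res_eq {V V' : Y.Opens} (h : V' ≤ V) (f : Γ(Mo π, V)) : ofM π (res (Mo π) h f) = rs π h (ofM π f) := rfl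

/-- the local condition for representability. -/
lemma rep_of_local (n : ℕ) (V : Y.Opens) (f : Γ(X.left, π ⁻¹ᵁ V)) (c : ℕ → Γ(X.left, π ⁻¹ᵁ V))
    (h : ∀ x ∈ V, ∃ (W : Y.Opens) (hW : W ≤ V), x ∈ W ∧ Rep ε b π hπ e n W (rs π hW f) (fun j => rs π hW (c j))) :
    Rep ε b π hπ e n V f c := by
  choose W hW hxW hr using h
  unfold Rep
  refine TopCat.Sheaf.eq_of_locally_eq' (G ⊗ X).left.sheaf
    (fun x : V => ((snd G X).left ≫ π) ⁻¹ᵁ (W x.1 x.2)) _
    (fun x => homOfLE (((snd G X).left ≫ π).preimage_mono (hW x.1 x.2))) ?_ _ _ ?_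
  · intro x hx
    exact Opens.mem_iSup.mpr ⟨⟨((snd G X).left ≫ π) x, hx⟩, hxW _ hx⟩
  · intro x
    have h1 := hr x.1 x.2
    unfold Rep at h1
    rw [← rs_pl] at h1
    refine h1.trans ?_
    change _ = rs ((snd G X).left ≫ π) (hW x.1 x.2) _
    rw [map_sum]
    refine Finset.sum_congr rfl fun j _ => ?_
    rw [map_mul, rs_pl]
    congr 1
    exact (map_fn ε _ _ _ _ _).symm

/-- The `n`-th step of the filtration. -/
noncomputable def FS (n : ℕ) : SubSheaf.Sub (Mo π) where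
  obj V :=
    { carrier := {f | ∃ c : ℕ → Γ(X.left, π ⁻¹ᵁ V), Rep ε b π hπ e n V (ofM π f) c}
      add_mem' := by
        rintro f f' ⟨c, hc⟩ ⟨c', hc'⟩
        exact ⟨_, hc.add hc'⟩
      zero_mem' := ⟨_, Rep.zero ε b π hπ⟩
      smul_mem' := by
        rintro r f ⟨c, hc⟩
        exact ⟨_, hc.smul r⟩ }
  map_mem := by
    rintro U V h s ⟨c, hc⟩
    exact ⟨_, hc.restrict h⟩
  local_mem := by
    intro V s h
    choose W hW hxW hr using h
    choose c hc using hr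
    have hglue : ∀ j, ∃ t : Γ(Mo π, V), j < n → ∀ x : V, res (Mo π) (hW x.1 x.2) t = toM π (c x.1 x.2 j) := by
      intro j
      by_cases hj : j < n
      · obtain ⟨t, ht⟩ := exists_glue (Mo π) (fun x : V => W x.1 x.2) (fun x => hW x.1 x.2)
          (fun x hx => ⟨⟨x, hx⟩, hxW x hx⟩) (fun x => toM π (c x.1 x.2 j)) (fun x y => by
            have h1 := (hc x.1 x.2).restrict (inf_le_left : W x.1 x.2 ⊓ W y.1 y.2 ≤ W x.1 x.2)
            have h2 := (hc y.1 y.2).restrict (inf_le_right : W x.1 x.2 ⊓ W y.1 y.2 ≤ W y.1 y.2)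
            rw [← res_eq, res_res] at h1 h2
            exact h1.unique h2 j hj)
        exact ⟨t, fun _ => ht⟩
      · exact ⟨0, fun h => absurd h hj⟩
    choose t ht using hglue
    refine ⟨fun j => ofM π (t j), rep_of_local ε b π hπ e n V _ _ fun x hx => ⟨W x hx, hW x hx, hxW x hx, ?_⟩⟩
    have h1 := hc x hx
    unfold Rep at h1 ⊢
    refine h1.trans (Finset.sum_congr rfl fun j hj => ?_)
    have h2 := ht j (Finset.mem_range.mp hj) ⟨x, hx⟩
    have h3 : (fun j => rs π (hW x hx) (ofM π (t j))) j = c x hx j := h2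
    rw [h3]

lemma mem_FS {n : ℕ} {V : Y.Opens} (f : Γ(Mo π, V)) : f ∈ (FS ε b π hπ e n).obj V ↔
    ∃ c : ℕ → Γ(X.left, π ⁻¹ᵁ V), Rep ε b π hπ e n V (ofM π f) c := Iff.rfl

lemma FS_le (n : ℕ) {V : Y.Opens} (f : Γ(Mo π, V)) (hf : f ∈ (FS ε b π hπ e n).obj V) :
    f ∈ (FS ε b π hπ e (n + 1)).obj V := by
  obtain ⟨c, hc⟩ := hf
  exact ⟨_, hc.of_le (Nat.le_succ n)⟩

lemma FS_zero {V : Y.Opens} (f : Γ(Mo π, V)) (hf : f ∈ (FS ε b π hπ e 0).obj V) : f = 0 := by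
  obtain ⟨c, hc⟩ := hf
  have h1 := hc.expand (1 : X ⟶ G) (𝟙 X) (r := π) (by simp)
  have h2 : sm b (1 : X ⟶ G) (𝟙 X) = 𝟙 X := one_sm b _
  simp only [h2, Finset.range_zero, Finset.sum_empty] at h1
  have h3 : pl (𝟙 X : X ⟶ X).left (r := π) (r' := π) (by simp) V (ofM π f) = ofM π f := by
    simp only [pl, Over.id_left]
    have : ∀ (U : X.left.Opens) (h : U ≤ (𝟙 X.left : X.left ⟶ X.left) ⁻¹ᵁ U),
        Scheme.Hom.appLE (𝟙 X.left) U U h = 𝟙 _ := by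
      intro U h
      simp only [Scheme.Hom.appLE, Scheme.Hom.id_app]
      exact (Category.id_comp _).trans (X.left.presheaf.map_id _)
    rw [this]
    rfl
  exact h3.symm.trans h1

/-- the subobject -/
noncomputable def FSub (n : ℕ) : Subobject (Mo π) := Subobject.mk (FS ε b π hπ e n).ι

/-- the underlying module -/
noncomputable def iFS (n : ℕ) : ((FSub ε b π hπ e n : Subobject (Mo π)) : Y.Modules) ≅ (FS ε b π hπ e n).toModules :=
  Subobject.underlyingIso _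

lemma iFS_hom (n : ℕ) : (iFS ε b π hπ e n).hom ≫ (FS ε b π hπ e n).ι = (FSub ε b π hπ e n).arrow :=
  Subobject.underlyingIso_hom_comp_eq_mk _

lemma iFS_inv (n : ℕ) : (iFS ε b π hπ e n).inv ≫ (FSub ε b π hπ e n).arrow = (FS ε b π hπ e n).ι :=
  Subobject.underlyingIso_arrow _

lemma FSub_le (n : ℕ) : FSub ε b π hπ e n ≤ FSub ε b π hπ e (n + 1) := by
  obtain ⟨g, hg⟩ := exists_lift (FS ε b π hπ e n).ι (FS ε b π hπ e (n + 1)).ι (fun V s =>
    ⟨(FS ε b π hπ e (n + 1)).sec _ (FS_le ε b π hπ e n _ ((FS ε b π hπ e n).ι_app_mem s)), rfl⟩)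
  exact Subobject.mk_le_mk_of_comm g hg

lemma FSub_zero : FSub ε b π hπ e 0 = ⊥ := by
  have h : (FS ε b π hπ e 0).ι = 0 := by
    apply Scheme.Modules.hom_ext
    intro V
    ext s
    exact FS_zero ε b π hπ e _ ((FS ε b π hπ e 0).ι_app_mem s)
  exact Subobject.mk_eq_bot_iff_zero.mpr h

lemma eq_top [IsAffineHom π] (N : Subobject (Mo π)) (hN : ∀ n, FSub ε b π hπ e n ≤ N) : N = ⊤ := by
  have h : Epi N.arrow := by
    refine epi_of_affine _ fun V hV f => ?_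
    obtain ⟨n, c, hc⟩ := exists_rep (ε := ε) (hπ := hπ) e hV (ofM π f)
    let s := (FS ε b π hπ e n).sec f ⟨c, hc⟩
    have h1 := Subobject.ofLE_arrow (hN n)
    refine ⟨(Subobject.ofLE _ _ (hN n)).app V ((iFS ε b π hπ e n).inv.app V s), ?_⟩
    have h2 : (iFS ε b π hπ e n).inv ≫ Subobject.ofLE _ _ (hN n) ≫ N.arrow =
        (FS ε b π hπ e n).ι := by
      rw [h1, iFS_inv]
    have h3 := congrArg (fun g => g.app V s) h2
    exact h3
  have : IsIso N.arrow := isIso_of_mono_of_epi _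
  exact Subobject.eq_top_of_isIso_arrow N

section Lead

variable [IsMonHom ε.hom] [Flat π] [Surjective π] [IsAffineHom π] (pb : IsPullback b.act.left (snd G X).left π π)
  (u : ℕ → ℕ → A) (hu1 : ∀ j, u j j = 1) (hu0 : ∀ i j, j < i → u i j = 0)
  (hu : ∀ j, CoalgebraStruct.comul (R := k) (e j) = ∑ i ∈ Finset.range (j + 1), e i ⊗ₜ[k] u i j)

include pb hu1 hu0 hu in
lemma exists_ld (n : ℕ) {V : Y.Opens} (f : Γ(Mo π, V)) (hf : f ∈ (FS ε b π hπ e (n + 1)).obj V) :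
    ∃ r : Γ(Y, V), ∀ c, Rep ε b π hπ e (n + 1) V (ofM π f) c → (π.app V).hom r = c n := by
  obtain ⟨c, hc⟩ := hf
  obtain ⟨r, hr⟩ := exists_app pb (c n) (hc.lead hu1 hu0 hu)
  exact ⟨r, fun c' hc' => hr.trans (hc.unique hc' n (Nat.lt_succ_self n))⟩

/-- the leading coefficient -/
noncomputable def ld (n : ℕ) {V : Y.Opens} (f : Γ(Mo π, V)) (hf : f ∈ (FS ε b π hπ e (n + 1)).obj V) : Γ(Y, V) :=
  (exists_ld ε b π hπ e pb u hu1 hu0 hu n f hf).choose

lemma ld_spec (n : ℕ) {V : Y.Opens} (f : Γ(Mo π, V)) (hf : f ∈ (FS ε b π hπ e (n + 1)).obj V)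
    (c : ℕ → Γ(X.left, π ⁻¹ᵁ V)) (hc : Rep ε b π hπ e (n + 1) V (ofM π f) c) :
    (π.app V).hom (ld ε b π hπ e pb u hu1 hu0 hu n f hf) = c n :=
  (exists_ld ε b π hπ e pb u hu1 hu0 hu n f hf).choose_spec c hc

lemma ld_eq (n : ℕ) {V : Y.Opens} (f : Γ(Mo π, V)) (hf : f ∈ (FS ε b π hπ e (n + 1)).obj V)
    (c : ℕ → Γ(X.left, π ⁻¹ᵁ V)) (hc : Rep ε b π hπ e (n + 1) V (ofM π f) c) (r : Γ(Y, V))
    (hr : (π.app V).hom r = c n) : ld ε b π hπ e pb u hu1 hu0 hu n f hf = r :=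
  app_injective (π := π) V ((ld_spec ε b π hπ e pb u hu1 hu0 hu n f hf c hc).trans hr.symm)

lemma ld_congr (n : ℕ) {V : Y.Opens} {f f' : Γ(Mo π, V)} (h : f = f') (hf : f ∈ (FS ε b π hπ e (n + 1)).obj V)
    (hf' : f' ∈ (FS ε b π hπ e (n + 1)).obj V) :
    ld ε b π hπ e pb u hu1 hu0 hu n f hf = ld ε b π hπ e pb u hu1 hu0 hu n f' hf' := by
  subst h; rfl

lemma ld_add (n : ℕ) {V : Y.Opens} (f f' : Γ(Mo π, V)) (hf : f ∈ (FS ε b π hπ e (n + 1)).obj V)
    (hf' : f' ∈ (FS ε b π hπ e (n + 1)).obj V) :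
    ld ε b π hπ e pb u hu1 hu0 hu n (f + f') (add_mem hf hf') =
      ld ε b π hπ e pb u hu1 hu0 hu n f hf + ld ε b π hπ e pb u hu1 hu0 hu n f' hf' := by
  obtain ⟨c, hc⟩ := hf
  obtain ⟨c', hc'⟩ := hf'
  refine ld_eq ε b π hπ e pb u hu1 hu0 hu n _ _ (fun j => c j + c' j) (hc.add hc') _ ?_
  rw [map_add, ld_spec ε b π hπ e pb u hu1 hu0 hu n _ _ c hc, ld_spec ε b π hπ e pb u hu1 hu0 hu n _ _ c' hc']

lemma ld_res (n : ℕ) {V V' : Y.Opens} (h : V' ≤ V) (f : Γ(Mo π, V)) (hf : f ∈ (FS ε b π hπ e (n + 1)).obj V) :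
    ld ε b π hπ e pb u hu1 hu0 hu n (res (Mo π) h f) ((FS ε b π hπ e (n + 1)).map_mem h hf) =
      (Y.presheaf.map (homOfLE h).op).hom (ld ε b π hπ e pb u hu1 hu0 hu n f hf) := by
  obtain ⟨c, hc⟩ := hf
  refine ld_eq ε b π hπ e pb u hu1 hu0 hu n _ _ (fun j => rs π h (c j)) (hc.restrict h) _ ?_
  rw [← ld_spec ε b π hπ e pb u hu1 hu0 hu n _ ⟨c, hc⟩ c hc]
  exact congr(CommRingCat.Hom.hom $(π.naturality (homOfLE h).op) _)

lemma ld_smul (n : ℕ) {V : Y.Opens} (r : Γ(Y, V)) (f : Γ(Mo π, V)) (hf : f ∈ (FS ε b π hπ e (n + 1)).obj V) :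
    ld ε b π hπ e pb u hu1 hu0 hu n (r • f) (Submodule.smul_mem _ r hf) =
      r * ld ε b π hπ e pb u hu1 hu0 hu n f hf := by
  obtain ⟨c, hc⟩ := hf
  refine ld_eq ε b π hπ e pb u hu1 hu0 hu n _ _ (fun j => (π.app V).hom r * c j) (hc.smul r) _ ?_
  rw [map_mul, ld_spec ε b π hπ e pb u hu1 hu0 hu n _ _ c hc]

/-- sections of the structure sheaf -/
noncomputable def toO {V : Y.Opens} (f : Γ(Y, V)) : Γ(Coh.structureModule Y, V) := f

/-- the leading coefficient on sections -/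
noncomputable def θs (n : ℕ) (V : Y.Opens) (s : Γ((FS ε b π hπ e (n + 1)).toModules, V)) :
    Γ(Coh.structureModule Y, V) :=
  toO (ld ε b π hπ e pb u hu1 hu0 hu n ((FS ε b π hπ e (n + 1)).ι.app V s) ((FS ε b π hπ e (n + 1)).ι_app_mem s))

lemma θs_add (n : ℕ) (V : Y.Opens) (s t : Γ((FS ε b π hπ e (n + 1)).toModules, V)) :
    θs ε b π hπ e pb u hu1 hu0 hu n V (s + t) = θs ε b π hπ e pb u hu1 hu0 hu n V s +
      θs ε b π hπ e pb u hu1 hu0 hu n V t :=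
  (ld_congr ε b π hπ e pb u hu1 hu0 hu n (map_add _ s t) ((FS ε b π hπ e (n + 1)).ι_app_mem (s + t))
    (add_mem ((FS ε b π hπ e (n + 1)).ι_app_mem s) ((FS ε b π hπ e (n + 1)).ι_app_mem t))).trans
    (ld_add ε b π hπ e pb u hu1 hu0 hu n _ _ ((FS ε b π hπ e (n + 1)).ι_app_mem s)
      ((FS ε b π hπ e (n + 1)).ι_app_mem t))

lemma θs_res (n : ℕ) (V V' : Y.Opens) (h : V' ≤ V) (s : Γ((FS ε b π hπ e (n + 1)).toModules, V)) :
    θs ε b π hπ e pb u hu1 hu0 hu n V' (res _ h s) =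
      res (Coh.structureModule Y) h (θs ε b π hπ e pb u hu1 hu0 hu n V s) :=
  (ld_congr ε b π hπ e pb u hu1 hu0 hu n (app_res _ h s) ((FS ε b π hπ e (n + 1)).ι_app_mem (res _ h s))
      ((FS ε b π hπ e (n + 1)).map_mem h ((FS ε b π hπ e (n + 1)).ι_app_mem s))).trans
      (ld_res ε b π hπ e pb u hu1 hu0 hu n h _ ((FS ε b π hπ e (n + 1)).ι_app_mem s))

lemma θs_smul (n : ℕ) (V : Y.Opens) (r : Γ(Y, V)) (s : Γ((FS ε b π hπ e (n + 1)).toModules, V)) :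
    θs ε b π hπ e pb u hu1 hu0 hu n V (r • s) = r • θs ε b π hπ e pb u hu1 hu0 hu n V s :=
  (ld_congr ε b π hπ e pb u hu1 hu0 hu n (app_smul' _ r s) ((FS ε b π hπ e (n + 1)).ι_app_mem (r • s))
      (Submodule.smul_mem _ r ((FS ε b π hπ e (n + 1)).ι_app_mem s))).trans
      (ld_smul ε b π hπ e pb u hu1 hu0 hu n r _ ((FS ε b π hπ e (n + 1)).ι_app_mem s))

/-- the leading coefficient as a morphism of modules -/
noncomputable def θ (n : ℕ) : (FS ε b π hπ e (n + 1)).toModules ⟶ Coh.structureModule Y :=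
  homMk (fun V => AddMonoidHom.mk' (θs ε b π hπ e pb u hu1 hu0 hu n V) (θs_add ε b π hπ e pb u hu1 hu0 hu n V))
    (θs_res ε b π hπ e pb u hu1 hu0 hu n) (θs_smul ε b π hπ e pb u hu1 hu0 hu n)

lemma θ_app (n : ℕ) {V : Y.Opens} (s : Γ((FS ε b π hπ e (n + 1)).toModules, V)) :
    (θ ε b π hπ e pb u hu1 hu0 hu n).app V s = toO (ld ε b π hπ e pb u hu1 hu0 hu n
      ((FS ε b π hπ e (n + 1)).ι.app V s) ((FS ε b π hπ e (n + 1)).ι_app_mem s)) := rfl

lemma epi_θ (n : ℕ) : Epi (θ ε b π hπ e pb u hu1 hu0 hu n) := by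
  refine epi_of_affine _ fun V hV r => ?_
  obtain ⟨f, c, hc, hc1⟩ := exists_one (ε := ε) (hπ := hπ) e u hu1 hu0 hu pb hV n
  let r' : Γ(Y, V) := r
  have h1 := hc.smul r'
  have hf : toM π ((π.app V).hom r' * f) ∈ (FS ε b π hπ e (n + 1)).obj V := ⟨_, h1⟩
  refine ⟨(FS ε b π hπ e (n + 1)).sec _ hf, ?_⟩
  rw [θ_app]
  change ld ε b π hπ e pb u hu1 hu0 hu n _ _ = r'
  refine ld_eq ε b π hπ e pb u hu1 hu0 hu n _ _ _ h1 _ ?_
  rw [hc1, _root_.mul_one]

lemma mem_of_θ (n : ℕ) {V : Y.Opens} (s : Γ((FS ε b π hπ e (n + 1)).toModules, V))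
    (h : (θ ε b π hπ e pb u hu1 hu0 hu n).app V s = 0) :
    (FS ε b π hπ e (n + 1)).ι.app V s ∈ (FS ε b π hπ e n).obj V := by
  obtain ⟨c, hc⟩ := (FS ε b π hπ e (n + 1)).ι_app_mem s
  have h1 := ld_spec ε b π hπ e pb u hu1 hu0 hu n _ ((FS ε b π hπ e (n + 1)).ι_app_mem s) c hc
  have h2 : ld ε b π hπ e pb u hu1 hu0 hu n _ ((FS ε b π hπ e (n + 1)).ι_app_mem s) = 0 := h
  rw [h2, map_zero] at h1
  exact ⟨c, hc.succ h1.symm⟩

lemma θ_eq_zero (n : ℕ) {V : Y.Opens} (s : Γ((FS ε b π hπ e (n + 1)).toModules, V))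
    (h : (FS ε b π hπ e (n + 1)).ι.app V s ∈ (FS ε b π hπ e n).obj V) :
    (θ ε b π hπ e pb u hu1 hu0 hu n).app V s = 0 := by
  obtain ⟨c, hc⟩ := h
  change ld ε b π hπ e pb u hu1 hu0 hu n _ ((FS ε b π hπ e (n + 1)).ι_app_mem s) = 0
  refine ld_eq ε b π hπ e pb u hu1 hu0 hu n _ _ _ (hc.of_le (Nat.le_succ n)) _ ?_
  rw [map_zero]
  exact (if_neg (lt_irrefl n)).symm

include pb u hu1 hu0 hu in
lemma nonempty_cok (n : ℕ) :
    Nonempty (cokernel (Subobject.ofLE _ _ (FSub_le ε b π hπ e n)) ≅ Coh.structureModule Y) := by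
  have := epi_θ ε b π hπ e pb u hu1 hu0 hu n
  refine nonempty_cokernel_iso _ ((iFS ε b π hπ e (n + 1)).hom ≫ θ ε b π hπ e pb u hu1 hu0 hu n) ?_ ?_
  · apply Scheme.Modules.hom_ext
    intro V
    ext s
    change (θ ε b π hπ e pb u hu1 hu0 hu n).app V ((iFS ε b π hπ e (n + 1)).hom.app V
      ((Subobject.ofLE _ _ (FSub_le ε b π hπ e n)).app V s)) = 0
    apply θ_eq_zero
    have h1 : (Subobject.ofLE _ _ (FSub_le ε b π hπ e n)) ≫ (iFS ε b π hπ e (n + 1)).hom ≫ (FS ε b π hπ e (n + 1)).ι =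
        (iFS ε b π hπ e n).hom ≫ (FS ε b π hπ e n).ι := by
      rw [iFS_hom, Subobject.ofLE_arrow, iFS_hom]
    have h2 : (FS ε b π hπ e (n + 1)).ι.app V ((iFS ε b π hπ e (n + 1)).hom.app V
        ((Subobject.ofLE _ _ (FSub_le ε b π hπ e n)).app V s)) =
        (FS ε b π hπ e n).ι.app V ((iFS ε b π hπ e n).hom.app V s) := congrArg (fun g => g.app V s) h1
    rw [h2]
    exact (FS ε b π hπ e n).ι_app_mem _
  · intro K f hf
    obtain ⟨g, hg⟩ := exists_lift (f ≫ (iFS ε b π hπ e (n + 1)).hom ≫ (FS ε b π hπ e (n + 1)).ι)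
        (FS ε b π hπ e n).ι (fun V s => by
      have h1 : (θ ε b π hπ e pb u hu1 hu0 hu n).app V ((iFS ε b π hπ e (n + 1)).hom.app V (f.app V s)) = 0 :=
        congrArg (fun g => g.app V s) hf
      exact ⟨(FS ε b π hπ e n).sec _ (mem_of_θ ε b π hπ e pb u hu1 hu0 hu n _ h1), rfl⟩)
    refine ⟨g ≫ (iFS ε b π hπ e n).inv, ?_⟩
    rw [← cancel_mono (FSub ε b π hπ e (n + 1)).arrow, Category.assoc, Category.assoc, Subobject.ofLE_arrow,
      iFS_inv, hg, iFS_hom]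

end Lead

end K494.UTShf
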