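import Groth.Agent.AGF.K494.UT.Fin

/-!
# The filtration of the direct image of the structure sheaf of a torsor under a unipotent group
-/

set_option autoImplicit false
universe u
open CategoryTheory MonoidalCategory CartesianMonoidalCategory MonObj AlgebraicGeometry Limits TopologicalSpace
open scoped TensorProduct
open Groth.Agent.Books.BorelOrb K552.Push

namespace K494.UTTors

variable {S Y : Scheme.{u}} {d : Y ⟶ S} {U : Over S} [GrpObj U] {X : Over Y}

/-- the action over the base of the group -/
lemma push_hom (a : AlgGrp.Action (Red.bc d U) X) :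
    (push a).act.left ≫ X.hom = (snd U ((Over.map d).obj X)).left ≫ X.hom := by
  have h := sm_push_proj a (fst U ((Over.map d).obj X)) (snd U ((Over.map d).obj X))
  have h2 : sm (push a) (fst U ((Over.map d).obj X)) (snd U ((Over.map d).obj X)) = (push a).act := by
    rw [sm, lift_fst_snd, Category.id_comp]
  rw [h2] at h
  exact congrArg (fun f => f.left) h

/-- the fibre square of a pseudo-torsor -/
theorem isPullback_push (a : AlgGrp.Action (Red.bc d U) X) (ha : NonAbH1.IsPseudoTorsorSch a) :
    IsPullback (push a).act.left (snd U ((Over.map d).obj X)).left X.hom X.hom := by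
  have key : ∀ (T : Scheme.{u}) (x y : T ⟶ X.left), x ≫ X.hom = y ≫ X.hom →
      ∃! z : T ⟶ (U ⊗ (Over.map d).obj X).left, z ≫ (push a).act.left = x ∧
        z ≫ (snd U ((Over.map d).obj X)).left = y := by
    intro T x y hxy
    let T' : Over S := Over.mk (y ≫ X.hom ≫ d)
    let z : T' ⟶ (Over.map d).obj X := Over.homMk x (by
      change x ≫ X.hom ≫ d = y ≫ X.hom ≫ d
      rw [← Category.assoc, hxy, Category.assoc])
    let z' : T' ⟶ (Over.map d).obj X := Over.homMk y rfl
    have hz : z ≫ proj d X = z' ≫ proj d X := by
      ext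
      exact hxy
    obtain ⟨g, hg, hgu⟩ := existsUnique_push (b := a) ha z z' hz
    refine ⟨(lift g z').left, ⟨?_, ?_⟩, ?_⟩
    · exact congrArg (fun f => f.left) hg
    · have : lift g z' ≫ snd U ((Over.map d).obj X) = z' := lift_snd _ _
      exact congrArg (fun f => f.left) this
    · rintro m ⟨hm1, hm2⟩
      have hw : m ≫ (U ⊗ (Over.map d).obj X).hom = T'.hom := by
        have h1 : (snd U ((Over.map d).obj X)).left ≫ ((Over.map d).obj X).hom = (U ⊗ (Over.map d).obj X).hom :=
          Over.w _
        rw [← h1, ← Category.assoc, hm2]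
        rfl
      let m' : T' ⟶ U ⊗ (Over.map d).obj X := Over.homMk m hw
      have h2 : m' ≫ snd U ((Over.map d).obj X) = z' := by ext; exact hm2
      have h3 : sm (push a) (m' ≫ fst U ((Over.map d).obj X)) z' = z := by
        rw [← h2, sm]
        have : lift (m' ≫ fst U ((Over.map d).obj X)) (m' ≫ snd U ((Over.map d).obj X)) = m' := by
          rw [← comp_lift, lift_fst_snd, Category.comp_id]
        rw [this]
        ext
        exact hm1
      have h4 := hgu _ h3
      have h5 : m' = lift g z' := by
        apply CartesianMonoidalCategory.hom_ext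
        · rw [lift_fst, h4]
        · rw [lift_snd, h2]
      exact congrArg (fun f => f.left) h5
  refine ⟨⟨push_hom a⟩, ⟨PullbackCone.IsLimit.mk _ (fun s => (key s.pt s.fst s.snd s.condition).choose)
    (fun s => (key s.pt s.fst s.snd s.condition).choose_spec.1.1)
    (fun s => (key s.pt s.fst s.snd s.condition).choose_spec.1.2)
    (fun s m hm hm' => (key s.pt s.fst s.snd s.condition).choose_spec.2 m ⟨hm, hm'⟩)⟩⟩

omit [GrpObj U] in
lemma isPullback_snd (U T : Over S) : IsPullback (fst U T).left (snd U T).left U.hom T.hom := by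
  rw [Over.fst_left, Over.snd_left]
  exact IsPullback.of_hasPullback _ _

/-- A torsor under an affine group is affine. -/
theorem isAffineHom_hom (a : AlgGrp.Action (Red.bc d U) X) (ha : RedSub.IsTorsor a) [IsAffineHom U.hom] :
    IsAffineHom X.hom := by
  obtain ⟨h1, h2, h3, h4⟩ := ha
  have pb := isPullback_push a h4
  have h5 : IsAffineHom (snd U ((Over.map d).obj X)).left :=
    MorphismProperty.of_isPullback (isPullback_snd U ((Over.map d).obj X)) ‹_›
  have h6 : IsAffineHom (pullback.snd X.hom X.hom) := by
    have h7 : pb.isoPullback.inv ≫ (snd U ((Over.map d).obj X)).left = pullback.snd X.hom X.hom :=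
      pb.isoPullback_inv_snd
    rw [← h7]
    infer_instance
  exact MorphismProperty.of_pullback_snd_of_descendsAlong (P := @IsAffineHom)
    (Q := @Surjective ⊓ @Flat ⊓ @LocallyOfFinitePresentation) (f := X.hom) (g := X.hom) ⟨⟨h1, h2⟩, h3⟩ h6

end K494.UTTors
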